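import Cfsg.Agent.Lib.Char.FeitZassenhaus.Final
import Cfsg.Agent.Lib.Lie.Zassenhaus.Normal

/-!
# Feit's inequality for Zassenhaus groups with two-point stabilizer of odd order
-/

set_option autoImplicit false
set_option linter.unusedSectionVars false
set_option linter.style.haveILetI false

namespace CfsgLib.Char.FeitZ

open scoped Classical
open Cfsg MulAction CfsgLib.Char CfsgLib.Char.ZassenhausOdd

universe u v

/-- The conclusion of Feit's inequality. -/
def Bound {G : Type u} [Group G] (H : Subgroup G) (e : ℕ) : Prop :=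
  Nat.card H - 1 ≤ 2 * e ∨ (IsPGroup 2 H ∧ (∃ u v : H, u * v ≠ v * u) ∧ (commutator H).index ≤ 4 * e ^ 2 + 1)

theorem Bound.mono {G : Type u} [Group G] {H : Subgroup G} {e e' : ℕ} (h : Bound H e) (he : e ≤ e') : Bound H e' := by
  rcases h with h | ⟨h1, h2, h3⟩
  · exact Or.inl (h.trans (by omega))
  · exact Or.inr ⟨h1, h2, h3.trans (Nat.add_le_add_right (Nat.mul_le_mul_left _ (Nat.pow_le_pow_left he 2)) 1)⟩

theorem Bound.congr {G G' : Type*} [Group G] [Group G'] {H : Subgroup G} {H' : Subgroup G'} (φ : H ≃* H')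
    {e : ℕ} (h : Bound H e) : Bound H' e := by
  rcases h with h | ⟨h1, ⟨u, v, huv⟩, h3⟩
  · exact Or.inl (Nat.card_congr φ.toEquiv ▸ h)
  · refine Or.inr ⟨h1.of_equiv φ, ⟨φ u, φ v, fun e' => huv (φ.injective (by rw [map_mul, map_mul, e']))⟩, ?_⟩
    rw [Subgroup.index_eq_card] at h3 ⊢
    exact (Nat.card_congr φ.abelianizationCongr.toEquiv).symm.le.trans h3

theorem bound_of_simple {G : Type u} {Ω : Type v} [Group G] [Finite G] [MulAction G Ω] [Fintype Ω]
    {a b : Ω} {H : Subgroup G} (P : Pt G a b H) [IsSimpleGroup G] : Bound H (Nat.card (pairStab G a b)) := by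
  by_contra hno
  rw [Bound, not_or] at hno
  obtain ⟨hlt, hno⟩ := hno
  have hlt' : 2 * Nat.card (pairStab G a b) + 1 < Nat.card H := by omega
  have hna : ¬ ∀ x ∈ H, ∀ y ∈ H, x * y = y * x := fun hc => by
    have := P.abelian_bound hc
    omega
  haveI := Fintype.ofFinite G
  haveI := Fintype.ofFinite (NN H)
  haveI := Fintype.ofFinite (IrrCharacter G)
  haveI := Fintype.ofFinite (IrrCharacter (NN H))
  rcases P.exists_coh hlt' with ⟨h1, h2, h3⟩ | ⟨⟨C⟩⟩
  · refine hno ⟨h2, ?_, ?_⟩
    · by_contra! hall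
      exact h1 ⟨⟨hall⟩⟩
    · have : ⁅H, H⁆.subgroupOf H = commutator H := by
        rw [← Subgroup.map_subtype_commutator H, Subgroup.subgroupOf,
          Subgroup.comap_map_eq_self_of_injective H.subtype_injective]
      rw [← this]
      omega
  · obtain ⟨f, hf⟩ := P.odd
    rcases Nat.even_or_odd (Nat.card H) with h | h
    · exact P.false_of_even C hf hlt' hna h
    · exact P.false_of_odd C hf hlt' hna h

theorem bound_aux (n : ℕ) : ∀ {G : Type u} {Ω : Type v} [Group G] [Finite G] [MulAction G Ω] [Fintype Ω]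
    {a b : Ω} {H : Subgroup G}, Pt G a b H → Nat.card G = n → Bound H (Nat.card (pairStab G a b)) := by
  induction n using Nat.strong_induction_on with
  | _ n ih =>
    intro G Ω _ _ _ _ a b H P hn
    by_cases hs : IsSimpleGroup G
    · exact bound_of_simple P
    obtain ⟨N, hN, hNb, hNt⟩ : ∃ N : Subgroup G, N.Normal ∧ N ≠ ⊥ ∧ N ≠ ⊤ := by
      by_contra! hno
      obtain ⟨g, hg, -⟩ := P.zas.2.2.2.1
      haveI : Nontrivial G := ⟨⟨g, 1, hg⟩⟩
      exact hs (IsSimpleGroup.mk fun N hN => (em (N = ⊥)).imp_right (hno N hN))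
    haveI := hN
    have hZN := Lie.ZassenhausNormal.isZassenhaus_normal P.zas N hNb
    obtain ⟨K, hKa, hKc, hKfix⟩ := exists_point_kernel hZN P.ne
    have hdvd : Nat.card (pairStab N a b) ∣ Nat.card (pairStab G a b) :=
      Subgroup.card_dvd_of_injective
        ({ toFun := fun e => ⟨(e.1 : G), Subgroup.mem_inf.2 ⟨(Subgroup.mem_inf.1 e.2).1, (Subgroup.mem_inf.1 e.2).2⟩⟩
           map_one' := rfl
           map_mul' := fun _ _ => rfl } : pairStab N a b →* pairStab G a b)
        (fun x y h => Subtype.ext (Subtype.ext (congrArg Subtype.val h :)))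
    have PN : Pt N a b K := ⟨hZN, P.ne, hKa, hKc, hKfix, P.odd.of_dvd_nat hdvd⟩
    have hlt : Nat.card N < n := by
      rw [← hn, ← N.card_mul_index]
      have h1 : N.index ≠ 1 := fun h => hNt (Subgroup.index_eq_one.1 h)
      have h2 : N.index ≠ 0 := Subgroup.index_ne_zero_of_finite
      exact lt_mul_of_one_lt_right Nat.card_pos (by omega)
    have hKH : K.map N.subtype = H := by
      have hcard : Nat.card (K.map N.subtype) = Nat.card H := by
        rw [Subgroup.card_map_of_injective N.subtype_injective]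
        have := P.card
        omega
      refine Subgroup.eq_of_le_of_card_ge (P.le_kernel ?_ (by rw [hcard]; exact P.coprime)) hcard.ge
      rintro _ ⟨x, hx, rfl⟩
      exact hKa hx
    refine ((ih _ hlt PN rfl).mono (Nat.le_of_dvd Nat.card_pos hdvd)).congr ?_
    exact (K.equivMapOfInjective N.subtype N.subtype_injective).trans (MulEquiv.subgroupCongr hKH)

theorem bound {G : Type u} {Ω : Type v} [Group G] [Finite G] [MulAction G Ω] [Fintype Ω]
    {a b : Ω} {H : Subgroup G} (P : Pt G a b H) : Bound H (Nat.card (pairStab G a b)) :=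
  bound_aux _ P rfl

end CfsgLib.Char.FeitZ
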