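import Cfsg.Agent.Lib.Char.FeitZassenhaus.Rest
import Mathlib.GroupTheory.SpecificGroups.ZGroup

/-!
# A simple Zassenhaus group with a small two-point stabilizer of odd order has no coherent kernel
-/

set_option autoImplicit false
set_option linter.unusedSectionVars false
set_option linter.style.haveILetI false

namespace CfsgLib.Char.FeitZ

open scoped ComplexConjugate Classical
open Cfsg MulAction CfsgLib.Char CfsgLib.Char.ZassenhausOdd

universe u v

/-- A finite group in which more than three quarters of the elements square to the identity. -/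
theorem sq_eq_one_of_many {A : Type*} [Group A] [Finite A]
    (h : 3 * Nat.card A < 4 * Nat.card {x : A // x * x = 1}) : ∀ x : A, x * x = 1 := by
  haveI := Fintype.ofFinite A
  set S : Finset A := Finset.univ.filter fun x => x * x = 1 with hS
  have hSc : Nat.card {x : A // x * x = 1} = S.card := by rw [Nat.card_eq_fintype_card, Fintype.card_subtype]
  rw [hSc, Nat.card_eq_fintype_card] at h
  have hbig : ∀ W : Subgroup A, ∀ T : Finset A, Fintype.card A < 2 * T.card → (∀ y ∈ T, y ∈ W) → W = ⊤ := by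
    intro W T hT hsub
    have h1 : T.card ≤ Nat.card W := by
      rw [← Fintype.card_coe, ← Nat.card_eq_fintype_card]
      exact Nat.card_le_card_of_injective (fun y : T => (⟨y.1, hsub y.1 y.2⟩ : W))
        fun y z e => Subtype.ext (congrArg (fun w : W => (w : A)) e)
    have h2 := W.card_mul_index
    rw [Nat.card_eq_fintype_card (α := A)] at h2
    have h3 : W.index ≠ 0 := Subgroup.index_ne_zero_of_finite
    refine Subgroup.index_eq_one.1 ?_
    by_contra h4
    have : Nat.card W * 2 ≤ Nat.card W * W.index := Nat.mul_le_mul_left _ (by omega)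
    omega
  have hcen : ∀ x ∈ S, x ∈ Subgroup.center A := by
    intro x hx
    have hx2 : x * x = 1 := (Finset.mem_filter.1 hx).2
    have htop : Subgroup.centralizer ({x} : Set A) = ⊤ := by
      refine hbig _ (S ∩ S.image (x * ·)) ?_ fun y hy => ?_
      · have h1 := Finset.card_union_add_card_inter S (S.image (x * ·))
        rw [Finset.card_image_of_injective _ (mul_right_injective x)] at h1
        have h2 : (S ∪ S.image (x * ·)).card ≤ Fintype.card A := Finset.card_le_univ _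
        omega
      · obtain ⟨hy1, hy2⟩ := Finset.mem_inter.1 hy
        obtain ⟨z, hz, rfl⟩ := Finset.mem_image.1 hy2
        have hz2 : z * z = 1 := (Finset.mem_filter.1 hz).2
        have hxz : (x * z) * (x * z) = 1 := (Finset.mem_filter.1 hy1).2
        rw [Subgroup.mem_centralizer_singleton_iff]
        have e1 : x * z = z * x := by
          calc x * z = (x * z) * ((x * z) * (x * z))⁻¹ := by rw [hxz, inv_one, mul_one]
            _ = z⁻¹ * x⁻¹ := by group
            _ = _ := by rw [inv_eq_of_mul_eq_one_right hz2, inv_eq_of_mul_eq_one_right hx2]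
        rw [mul_assoc, ← e1]
    rw [Subgroup.mem_center_iff]
    intro g
    exact (Subgroup.mem_centralizer_singleton_iff.1 (htop ▸ Subgroup.mem_top g))
  let W : Subgroup A :=
    { carrier := {x | x * x = 1 ∧ x ∈ Subgroup.center A}
      one_mem' := ⟨one_mul 1, one_mem _⟩
      mul_mem' := fun {x y} hx hy => ⟨by
        rw [mul_assoc, ← mul_assoc y x y, Subgroup.mem_center_iff.1 hx.2 y, mul_assoc x y y, hy.1, mul_one, hx.1],
        mul_mem hx.2 hy.2⟩
      inv_mem' := fun {x} hx => ⟨by rw [← mul_inv_rev, hx.1, inv_one], inv_mem hx.2⟩ }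
  have hW : W = ⊤ := hbig W S (by omega) fun y hy => ⟨(Finset.mem_filter.1 hy).2, hcen y hy⟩
  intro x
  exact (show x ∈ W from hW ▸ Subgroup.mem_top x).1

theorem mul_self_of_orderOf_two {A : Type*} [Monoid A] {x : A} (h : orderOf x = 2) : x * x = 1 := by
  rw [← pow_two, ← h, pow_orderOf_eq_one]

variable {G : Type u} {Ω : Type v} [Group G] [Fintype G] [MulAction G Ω] [Fintype Ω]
variable {a b : Ω} {H : Subgroup G} [Fintype (NN H)] [Fintype (IrrCharacter (NN H))] [Fintype (IrrCharacter G)]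

namespace Pt

/-- The rigid shape of the character table. -/
theorem rigid_data (P : Pt G a b H) [IsSimpleGroup G] (C : Coh H) {f : ℕ}
    (hf : Nat.card (pairStab G a b) = 2 * f + 1)
    (hlt : 2 * Nat.card (pairStab G a b) + 1 < Nat.card H) :
    (∀ χ ∈ excFin H, C.star χ 1 = (χ : NN H → ℂ) 1) ∧
    (∀ χ ∈ excFin H, ∀ k : NN H, k ∈ KK H → k ≠ 1 → C.star χ k = (χ : NN H → ℂ) k) ∧
    Nat.card {A : ConjClasses G // ∀ g : G, ConjClasses.mk g = A → g ∉ H} ≤ Nat.card (pairStab G a b) ∧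
    ∀ t ∈ H, t ≠ 1 → ∀ c ∈ H, c ≠ 1 →
      ∑ ψ ∈ restFin H, (ψ : G → ℂ) t * (ψ : G → ℂ) t * conj ((ψ : G → ℂ) c) / (ψ : G → ℂ) 1 =
        1 + (f : ℂ) / ((Nat.card H : ℂ) + 1) - (f : ℂ) / ((Nat.card H : ℂ) - 1) := by
  obtain ⟨χ₀, hχ₀, hdeg⟩ := P.exists_exc_linear
  obtain ⟨I, hIc, hI⟩ := P.exists_induced hf
  obtain ⟨m, hm⟩ := exc_values C
  obtain ⟨D, hD⟩ := star_int C hχ₀
  obtain ⟨N, hN⟩ : (KK H).index ∣ Nat.card (KK H) - 1 := index_dvd_card_sub_one (KK H) (cent_KK C) le_rfl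
  have hN' : (KK H).index * N + 1 = Nat.card (KK H) := by have := Nat.card_pos (α := KK H); omega
  have hhN : Nat.card (pairStab G a b) * N + 1 = Nat.card H := by rw [← P.index_kk, ← P.card_kk]; exact hN'
  obtain ⟨k₀, hk₀, hk₀1⟩ : ∃ k ∈ H, k ≠ 1 := by
    obtain ⟨⟨u, hu⟩, hne⟩ := Subgroup.ne_bot_iff_exists_ne_one.1 P.ne_bot
    exact ⟨u, hu, fun h => hne (Subtype.ext h)⟩
  have hd : ∀ ψ : IrrCharacter G, ∃ d : ℕ, 0 < d ∧ (ψ : G → ℂ) 1 = d := fun ψ => isIrrCharacter_degree ψ.2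
  choose d hd0 hd using hd
  have hr : ∀ ψ : IrrCharacter G, ∃ r : ℤ, ψ ∈ restFin H → ∀ k ∈ H, k ≠ 1 → (ψ : G → ℂ) k = r := by
    intro ψ
    by_cases h : ψ ∈ restFin H
    · obtain ⟨r, hr⟩ := rest_value h hk₀ hk₀1
      exact ⟨r, fun _ => hr⟩
    · exact ⟨0, fun h' => absurd h' h⟩
  choose r hr using hr
  set one : IrrCharacter G := ⟨_, isIrrCharacter_one⟩ with hone
  have hsub : insert one I ⊆ restFin H := by
    intro ψ hψ
    rw [mem_restFin]
    intro x hx y hy hx1 hy1
    rcases Finset.mem_insert.1 hψ with rfl | hψ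
    · rfl
    · rw [(hI ψ hψ).2 x hx hx1, (hI ψ hψ).2 y hy hy1]
  have honeI : one ∉ I := fun h => by
    have h1 := (hI one h).1
    simp only [hone] at h1
    have : (Nat.card H : ℂ) = 0 := by linear_combination -h1
    exact card_ne_zero' this
  set R := restFin H \ insert one I with hRdef
  have hcard : (restFin H).card = R.card + (f + 1) := by
    rw [← Finset.card_sdiff_add_card_eq_card hsub, Finset.card_insert_of_notMem honeI, hIc]
  have hsplit : ∀ F : IrrCharacter G → ℂ, ∑ ψ ∈ restFin H, F ψ = ∑ ψ ∈ R, F ψ + (F one + ∑ ψ ∈ I, F ψ) :=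
    fun F => by rw [← Finset.sum_sdiff hsub, Finset.sum_insert honeI]
  -- the relations
  have hnorm := rel_norm C hm hN' (k := ⟨k₀, Subgroup.le_normalizer hk₀⟩) hk₀ (fun h => hk₀1 (congrArg Subtype.val h))
  rw [hsplit, Finset.sum_congr rfl (s₁ := R) (g := fun ψ => ((r ψ ^ 2 : ℤ) : ℂ)) fun ψ hψ => by
      rw [hr ψ (Finset.mem_sdiff.1 hψ).1 k₀ hk₀ hk₀1, map_intCast]; push_cast; ring,
    Finset.sum_congr rfl (s₁ := I) (g := fun _ => (1 : ℂ)) fun ψ hψ => by
      rw [(hI ψ hψ).2 k₀ hk₀ hk₀1, map_one, one_mul],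
    Finset.sum_const, nsmul_eq_mul, mul_one, hIc, P.index_kk, hf] at hnorm
  simp only [hone, map_one, one_mul, Nat.cast_add, Nat.cast_mul, Nat.cast_ofNat, Nat.cast_one] at hnorm
  have hsq : ∑ ψ ∈ R, r ψ ^ 2 = (f : ℤ) - (m ^ 2 * N - 2 * m) := by
    apply Int.cast_injective (α := ℂ)
    push_cast at hnorm ⊢
    linear_combination hnorm
  have hdg := rel_degree C hχ₀ hdeg hD hN'
  rw [hsplit, Finset.sum_congr rfl (s₁ := R) (g := fun ψ => (((d ψ : ℤ) ^ 2 : ℤ) : ℂ)) fun ψ hψ => by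
      rw [hd]; push_cast; ring,
    Finset.sum_congr rfl (s₁ := I) (g := fun _ => ((Nat.card H : ℂ) + 1) ^ 2) fun ψ hψ => by rw [(hI ψ hψ).1],
    Finset.sum_const, nsmul_eq_mul, hIc, card_group P.zas P.ne, ← P.card, Nat.add_sub_cancel, hf] at hdg
  simp only [hone, one_pow, Nat.cast_add, Nat.cast_mul, Nat.cast_ofNat, Nat.cast_one] at hdg
  have hdsq : ∑ ψ ∈ R, (d ψ : ℤ) ^ 2 + D ^ 2 * N =
      ((Nat.card H : ℤ) + 1) * Nat.card H * (2 * f + 1) - 1 - f * ((Nat.card H : ℤ) + 1) ^ 2 := by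
    apply Int.cast_injective (α := ℂ)
    push_cast at hdg ⊢
    linear_combination hdg
  have hj : ∀ ψ ∈ R, 0 < (d ψ : ℤ) ∧ ∃ j : ℤ, 1 ≤ j ∧ (d ψ : ℤ) - r ψ = j * Nat.card H := by
    intro ψ hψ
    obtain ⟨hψr, hψn⟩ := Finset.mem_sdiff.1 hψ
    refine ⟨by exact_mod_cast hd0 ψ, ?_⟩
    obtain ⟨j, hj0, hjd, hjc⟩ := rest_degree (hr ψ hψr) (hd ψ) P.ne_bot
    refine ⟨j, ?_, hjd⟩
    by_contra hlt
    exact hψn (Finset.mem_insert.2 (Or.inl (P.eq_one_of_const (hjc (by omega)))))
  obtain ⟨j, hj'⟩ := exc_mult C hχ₀ hdeg hD (hm χ₀ hχ₀)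
  rw [P.index_kk, P.card_kk, hf] at hj'
  push_cast at hj'
  have havoid := card_avoid_lt C P.ne_bot
  have hlow := le_card_classes_avoiding P.zas P.ne P.le P.card P.fix P.odd (Nat.card H)
    (Nat.card (pairStab G a b)) P.card.symm rfl (by omega)
  have hf1 : 1 ≤ f := by have := P.one_lt_pair; omega
  have hN3 : 3 ≤ N := by
    by_contra h
    have : Nat.card (pairStab G a b) * N ≤ Nat.card (pairStab G a b) * 2 := Nat.mul_le_mul_left _ (by omega)
    omega
  obtain ⟨hm0, hDe, hRc, hshape⟩ := rigid R (fun ψ => (d ψ : ℤ)) r (e := 2 * (f : ℤ) + 1) (f := f)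
    (h := Nat.card H) (N := N) rfl (by exact_mod_cast hf1) (by exact_mod_cast hN3)
    (by rw [hf] at hhN; exact_mod_cast hhN.symm) (by omega) hj hsq hdsq ⟨j, hj'⟩
  subst hm0
  have hei : ((KK H).index : ℂ) ≠ 0 := Nat.cast_ne_zero.2 Subgroup.index_ne_zero_of_finite
  refine ⟨fun χ hχ => ?_, fun χ hχ k hk hk1 => ?_, by omega, fun t ht ht1 c hc hc1 => ?_⟩
  · have h := exc_degree C hχ₀ hχ
    rw [hD, hdeg, show (D : ℂ) = ((KK H).index : ℂ) by
      rw [hDe, P.index_kk, hf]; push_cast; ring] at h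
    refine mul_left_cancel₀ hei ?_
    linear_combination -h
  · rw [hm χ hχ k hk hk1]; simp
  have hcne : (Nat.card H : ℂ) - 1 ≠ 0 := by
    rw [sub_ne_zero]
    exact_mod_cast (show Nat.card H ≠ 1 by omega)
  rw [hsplit, Finset.sum_congr rfl (s₁ := R) (g := fun ψ => -(((r ψ ^ 2 : ℤ) : ℂ) / ((Nat.card H : ℂ) - 1))) fun ψ hψ => by
      obtain ⟨hψr, -⟩ := Finset.mem_sdiff.1 hψ
      obtain ⟨h01, hdr⟩ := hshape ψ hψ
      have hdr' : (d ψ : ℂ) = (Nat.card H : ℂ) + (r ψ : ℂ) := by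
        have := congrArg (fun z : ℤ => (z : ℂ)) hdr
        push_cast at this
        exact this
      rw [hr ψ hψr t ht ht1, hr ψ hψr c hc hc1, hd, hdr', map_intCast]
      rcases h01 with h | h <;> rw [h] <;> push_cast <;> ring,
    Finset.sum_congr rfl (s₁ := I) (g := fun _ => 1 / ((Nat.card H : ℂ) + 1)) fun ψ hψ => by
      rw [(hI ψ hψ).2 t ht ht1, (hI ψ hψ).2 c hc hc1, (hI ψ hψ).1, map_one, one_mul, one_mul],
    Finset.sum_neg_distrib, ← Finset.sum_div, ← Int.cast_sum, hsq, Finset.sum_const, nsmul_eq_mul, hIc]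
  simp only [hone, map_one, mul_one, div_one]
  push_cast
  ring

/-- A kernel of even order leaves no room for coherence. -/
theorem false_of_even (P : Pt G a b H) [IsSimpleGroup G] (C : Coh H) {f : ℕ}
    (hf : Nat.card (pairStab G a b) = 2 * f + 1)
    (hlt : 2 * Nat.card (pairStab G a b) + 1 < Nat.card H)
    (hna : ¬ ∀ x ∈ H, ∀ y ∈ H, x * y = y * x) (heven : Even (Nat.card H)) : False := by
  haveI : Fact (Nat.Prime 2) := ⟨Nat.prime_two⟩
  obtain ⟨h1, hv, -, hsum⟩ := P.rigid_data C hf hlt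
  obtain ⟨⟨t, ht⟩, hto⟩ := exists_prime_orderOf_dvd_card' (G := H) 2 (even_iff_two_dvd.1 heven)
  rw [Subgroup.orderOf_mk] at hto
  have ht1 : t ≠ 1 := fun h => by rw [h, orderOf_one] at hto; omega
  obtain ⟨c, hc, hc2⟩ : ∃ c ∈ H, c * c ≠ 1 := by
    by_contra! hall
    refine hna fun x hx y hy => ?_
    rw [← inv_eq_of_mul_eq_one_right (hall _ (mul_mem hx hy)), mul_inv_rev,
      inv_eq_of_mul_eq_one_right (hall x hx), inv_eq_of_mul_eq_one_right (hall y hy)]
  have hc1 : c ≠ 1 := fun h => hc2 (by rw [h, one_mul])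
  have hco : orderOf c ≠ 2 := fun h => hc2 (by rw [← pow_two, ← h, pow_orderOf_eq_one])
  have hord : ∀ {x : G}, IsConj t x → orderOf x = 2 := fun {x} hx => by
    obtain ⟨g, rfl⟩ := isConj_iff.1 hx
    rw [← MulAut.conj_apply, MulEquiv.orderOf_eq, hto]
  let t' : NN H := ⟨t, Subgroup.le_normalizer ht⟩
  let c' : NN H := ⟨c, Subgroup.le_normalizer hc⟩
  have hG : classConst (t' : G) (t' : G) (c' : G) = 0 := by
    rw [classConst, Nat.card_eq_zero]
    refine Or.inl ⟨fun ⟨p, hp1, hp2, hp⟩ => hco ?_⟩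
    exact sq_eq_one_of_product P.zas P.ne P.le P.card P.fix P.odd hc hc1 (hord hp1) (hord hp2) hp
  have hL : classConst t' t' c' = 0 := by
    rw [classConst, Nat.card_eq_zero]
    refine Or.inl ⟨fun ⟨p, hp1, hp2, hp⟩ => hco ?_⟩
    exact sq_eq_one_of_product P.zas P.ne P.le P.card P.fix P.odd hc hc1
      (hord ((Subgroup.normalizer (H : Set G)).subtype.map_isConj hp1))
      (hord ((Subgroup.normalizer (H : Set G)).subtype.map_isConj hp2)) (congrArg Subtype.val hp)
  have h := rel_triple C h1 hv (t := t') (c := c') ht (fun e => ht1 (congrArg Subtype.val e))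
    hc (fun e => hc1 (congrArg Subtype.val e)) hG hL
  rw [show ((t' : NN H) : G) = t from rfl, show ((c' : NN H) : G) = c from rfl, hsum t ht ht1 c hc hc1,
    P.index_kk, hf] at h
  push_cast at h
  have hp : (Nat.card H : ℂ) + 1 ≠ 0 := Nat.cast_add_one_ne_zero _
  have hq : (Nat.card H : ℂ) - 1 ≠ 0 := by
    rw [sub_ne_zero]; exact_mod_cast (show Nat.card H ≠ 1 by omega)
  field_simp at h
  have h0 : (f : ℂ) * (Nat.card H : ℂ) ^ 2 = 0 := by linear_combination (-1 / 2 : ℂ) * h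
  rw [mul_eq_zero, Nat.cast_eq_zero, pow_eq_zero_iff two_ne_zero, Nat.cast_eq_zero] at h0
  have := P.one_lt_pair
  omega

/-- A kernel of odd order leaves no room for coherence. -/
theorem false_of_odd (P : Pt G a b H) [IsSimpleGroup G] (C : Coh H) {f : ℕ}
    (hf : Nat.card (pairStab G a b) = 2 * f + 1)
    (hlt : 2 * Nat.card (pairStab G a b) + 1 < Nat.card H)
    (hna : ¬ ∀ x ∈ H, ∀ y ∈ H, x * y = y * x) (hho : Odd (Nat.card H)) : False := by
  haveI := P.zas.1
  obtain ⟨-, -, havoid, -⟩ := P.rigid_data C hf hlt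
  set e := Nat.card (pairStab G a b) with he
  set h := Nat.card H with hh
  have hΩ : Fintype.card Ω % 2 = 0 := by rw [← P.card]; obtain ⟨k, hk⟩ := hho; omega
  have hI : Nat.card {x : G // orderOf x = 2} = e * h := by
    have h1 := card_involutions P.zas P.ne P.odd
    rw [hΩ, Nat.sub_zero, ← P.card, Nat.add_sub_cancel] at h1
    exact Nat.eq_of_mul_eq_mul_right (show 0 < h + 1 by omega) (h1.trans (by ring))
  have hfree : ∀ x : G, orderOf x = 2 → ∀ c : Ω, x • c ≠ c := fun x hx c hc => by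
    have h0 := card_fixed_involution P.zas P.ne P.odd hx
    rw [hΩ, Nat.card_eq_zero] at h0
    rcases h0 with h0 | h0
    · exact h0.elim ⟨c, hc⟩
    · exact not_finite {c : Ω // x • c = c}
  have hnoH : ∀ x : G, orderOf x = 2 → x ∉ H := fun x hx hxH => hfree x hx a (P.le hxH)
  -- products of two distinct involutions avoid the kernel
  have hkey : ∀ x y : G, orderOf x = 2 → orderOf y = 2 → x ≠ y →
      ∀ g : G, ConjClasses.mk g = ConjClasses.mk (x * y) → g ∉ H := by
    intro x y hx hy hne g hg hgH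
    obtain ⟨c, hc⟩ := isConj_iff.1 (ConjClasses.mk_eq_mk_iff_isConj.1 hg).symm
    have hg1 : g ≠ 1 := fun h0 => hne (by
      rw [h0] at hc
      have h1 := mul_eq_one_iff_eq_inv.1 (conj_eq_one_iff.1 hc)
      rw [h1, inv_eq_of_mul_eq_one_right (show y * y = 1 by rw [← pow_two, ← hy, pow_orderOf_eq_one])])
    refine hnoH g (sq_eq_one_of_product P.zas P.ne P.le P.card P.fix P.odd hgH hg1
      (x := c * x * c⁻¹) (y := c * y * c⁻¹) ?_ ?_ ?_) hgH
    · rw [← MulAut.conj_apply, MulEquiv.orderOf_eq, hx]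
    · rw [← MulAut.conj_apply, MulEquiv.orderOf_eq, hy]
    · rw [← hc]; group
  obtain ⟨⟨t, hto⟩⟩ : Nonempty {x : G // orderOf x = 2} := by
    by_contra hno
    rw [not_nonempty_iff] at hno
    rw [Nat.card_of_isEmpty] at hI
    have := P.one_lt_pair
    rcases mul_eq_zero.1 hI.symm with h0 | h0 <;> omega
  have hclass : ∀ x : G, IsConj t x ↔ orderOf x = 2 := fun x =>
    ⟨fun hx => by obtain ⟨g, rfl⟩ := isConj_iff.1 hx; rw [← MulAut.conj_apply, MulEquiv.orderOf_eq, hto],
      fun hx => isConj_involutions P.zas P.ne P.odd hto hx⟩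
  set A := Subgroup.centralizer ({t} : Set G) with hA
  have hAc : Nat.card A = h + 1 := by
    have h1 := card_isConj t
    rw [Nat.card_congr (Equiv.subtypeEquivRight hclass), hI] at h1
    have h2 := A.card_mul_index
    rw [← h1, card_group P.zas P.ne, ← P.card, Nat.add_sub_cancel] at h2
    refine Nat.eq_of_mul_eq_mul_right (show 0 < e * h from Nat.mul_pos Nat.card_pos Nat.card_pos) ?_
    rw [h2]; ring
  set i := Nat.card {y : G // orderOf y = 2 ∧ y * t = t * y} with hi
  -- counting the pairs of distinct involutions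
  let Av := {B : ConjClasses G // ∀ g : G, ConjClasses.mk g = B → g ∉ H}
  haveI : Fintype Av := Fintype.ofFinite _
  let D := {p : G × G // orderOf p.1 = 2 ∧ orderOf p.2 = 2 ∧ p.1 ≠ p.2}
  let T : Av → Type u := fun B =>
    {p : G × G // orderOf p.1 = 2 ∧ orderOf p.2 = 2 ∧ p.1 ≠ p.2 ∧ ConjClasses.mk (p.1 * p.2) = B.1}
  have hDle : Nat.card D ≤ ∑ B : Av, Nat.card (T B) := by
    rw [← Nat.card_sigma]
    refine Nat.card_le_card_of_injective (fun p : D => (⟨⟨ConjClasses.mk (p.1.1 * p.1.2),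
      hkey _ _ p.2.1 p.2.2.1 p.2.2.2⟩, ⟨p.1, p.2.1, p.2.2.1, p.2.2.2, rfl⟩⟩ : Σ B, T B)) fun p q hpq => ?_
    exact Subtype.ext (congrArg (fun z : Σ B, T B => (z.2.1 : G × G)) hpq)
  have hDc : Nat.card D + e * h = (e * h) * (e * h) := by
    rw [← hI, ← Nat.card_prod, ← Nat.card_sum]
    exact Nat.card_congr
      { toFun := fun s => Sum.elim (fun p : D => (⟨p.1.1, p.2.1⟩, ⟨p.1.2, p.2.2.1⟩)) (fun x => (x, x)) s
        invFun := fun q => if hq : q.1.1 = q.2.1 then Sum.inr q.1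
          else Sum.inl ⟨(q.1.1, q.2.1), q.1.2, q.2.2, hq⟩
        left_inv := by
          rintro (⟨⟨x, y⟩, hx, hy, hne⟩ | ⟨x, hx⟩)
          · simp only [Sum.elim_inl]
            exact dif_neg hne
          · simp only [Sum.elim_inr]
            exact dif_pos rfl
        right_inv := by
          rintro ⟨⟨x, hx⟩, ⟨y, hy⟩⟩
          by_cases hq : x = y
          · subst hq; simp
          · simp [hq] }
  have hT : ∀ B : Av, Nat.card (T B) ≤ Nat.card G := fun B =>
    (Nat.card_le_card_of_injective (fun p : T B =>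
      (⟨p.1, p.2.1, p.2.2.1, p.2.2.2.2⟩ :
        {p : G × G // orderOf p.1 = 2 ∧ orderOf p.2 = 2 ∧ ConjClasses.mk (p.1 * p.2) = B.1}))
      fun p q hpq => Subtype.ext (congrArg (fun z : {p : G × G // orderOf p.1 = 2 ∧ orderOf p.2 = 2 ∧
        ConjClasses.mk (p.1 * p.2) = B.1} => z.1) hpq)).trans (card_pairs_class_le B.1)
  let B₀ : Av := ⟨ConjClasses.mk t, fun g hg hgH =>
    hnoH g ((hclass g).1 (ConjClasses.mk_eq_mk_iff_isConj.1 hg).symm) hgH⟩
  have hT0 : Nat.card (T B₀) + e * h ≤ (e * h) * i := by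
    have h1 : Nat.card (Σ x : {x : G // orderOf x = 2}, {y : G // orderOf y = 2 ∧ y * x.1 = x.1 * y}) = (e * h) * i := by
      haveI := Fintype.ofFinite {x : G // orderOf x = 2}
      rw [Nat.card_sigma, Finset.sum_congr rfl (g := fun _ => i) fun x _ => ?_, Finset.sum_const, Finset.card_univ,
        smul_eq_mul, ← Nat.card_eq_fintype_card, hI]
      obtain ⟨g, hg⟩ := isConj_iff.1 ((hclass x.1).2 x.2)
      refine (Nat.card_congr ((MulAut.conj g).toEquiv.subtypeEquiv fun y => ?_)).symm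
      show orderOf y = 2 ∧ y * t = t * y ↔ orderOf (g * y * g⁻¹) = 2 ∧ g * y * g⁻¹ * x.1 = x.1 * (g * y * g⁻¹)
      rw [← MulAut.conj_apply, MulEquiv.orderOf_eq, MulAut.conj_apply, ← hg,
        show g * y * g⁻¹ * (g * t * g⁻¹) = g * (y * t) * g⁻¹ by group,
        show g * t * g⁻¹ * (g * y * g⁻¹) = g * (t * y) * g⁻¹ by group, mul_left_inj, mul_right_inj]
    rw [← h1, ← hI, ← Nat.card_sum]
    have hcomm : ∀ p : T B₀, p.1.2 * p.1.1 = p.1.1 * p.1.2 := by
      intro p
      have h2 : orderOf (p.1.1 * p.1.2) = 2 :=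
        (hclass _).1 (ConjClasses.mk_eq_mk_iff_isConj.1 p.2.2.2.2).symm
      have h3 : (p.1.1 * p.1.2) * (p.1.1 * p.1.2) = 1 := mul_self_of_orderOf_two h2
      have hxx : p.1.1⁻¹ = p.1.1 := inv_eq_of_mul_eq_one_right (mul_self_of_orderOf_two p.2.1)
      have hyy : p.1.2⁻¹ = p.1.2 := inv_eq_of_mul_eq_one_right (mul_self_of_orderOf_two p.2.2.1)
      rw [← inv_eq_of_mul_eq_one_right h3, mul_inv_rev, hxx, hyy]
    refine Nat.card_le_card_of_injective (Sum.elim
      (fun p : T B₀ => (⟨⟨p.1.1, p.2.1⟩, ⟨p.1.2, p.2.2.1, hcomm p⟩⟩ :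
        Σ x : {x : G // orderOf x = 2}, {y : G // orderOf y = 2 ∧ y * x.1 = x.1 * y}))
      (fun x => ⟨x, ⟨x.1, x.2, rfl⟩⟩)) ?_
    intro p q hpq
    have h2 := congrArg (fun z : Σ x : {x : G // orderOf x = 2}, {y : G // orderOf y = 2 ∧ y * x.1 = x.1 * y} =>
      ((z.1.1, z.2.1) : G × G)) hpq
    rcases p with p | p <;> rcases q with q | q <;> simp only [Sum.elim_inl, Sum.elim_inr, Prod.mk.injEq] at h2
    · exact congrArg Sum.inl (Subtype.ext (Prod.ext h2.1 h2.2))
    · exact absurd (h2.1.trans h2.2.symm) p.2.2.2.1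
    · exact absurd (h2.1.symm.trans h2.2) q.2.2.2.1
    · exact congrArg Sum.inr (Subtype.ext h2.1)
  have he1 : 1 < e := P.one_lt_pair
  have hmain : e * h ≤ i + (e - 1) * (h + 1) := by
    have h1 : Nat.card D ≤ Nat.card (T B₀) + (e - 1) * Nat.card G := by
      refine hDle.trans ?_
      rw [← Finset.add_sum_erase _ _ (Finset.mem_univ B₀)]
      refine Nat.add_le_add_left ((Finset.sum_le_sum fun B _ => hT B).trans ?_) _
      rw [Finset.sum_const, Finset.card_erase_of_mem (Finset.mem_univ _), Finset.card_univ,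
        ← Nat.card_eq_fintype_card, smul_eq_mul]
      exact Nat.mul_le_mul_right _ (Nat.sub_le_sub_right havoid 1)
    rw [card_group P.zas P.ne, ← P.card, Nat.add_sub_cancel, ← he, ← hh] at h1
    refine Nat.le_of_mul_le_mul_left ?_ (show 0 < e * h from Nat.mul_pos (by omega) Nat.card_pos)
    calc e * h * (e * h) = Nat.card D + e * h := hDc.symm
      _ ≤ Nat.card (T B₀) + e * h + (e - 1) * ((h + 1) * h * e) := by omega
      _ ≤ e * h * i + (e - 1) * ((h + 1) * h * e) := Nat.add_le_add_right hT0 _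
      _ = e * h * (i + (e - 1) * (h + 1)) := by ring
  have hi' : h + 1 ≤ i + e := by
    obtain ⟨e', he'⟩ : ∃ e', e = e' + 1 := ⟨e - 1, by omega⟩
    rw [he', Nat.add_sub_cancel, add_mul, one_mul, mul_add, mul_one] at hmain
    omega
  have he4 : 4 * e + 1 ≤ h := by
    obtain ⟨N, hN⟩ : (KK H).index ∣ Nat.card (KK H) - 1 := index_dvd_card_sub_one (KK H) (cent_KK C) le_rfl
    rw [P.index_kk, P.card_kk, ← he, ← hh] at hN
    have hNev : Even N := by
      by_contra hN'
      have h1 : Odd (h - 1) := hN ▸ P.odd.mul (Nat.not_even_iff_odd.1 hN')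
      obtain ⟨k, hk⟩ := hho
      obtain ⟨l, hl⟩ := h1
      omega
    obtain ⟨N', rfl⟩ := hNev
    have hN2 : 2 ≤ N' := by
      by_contra h2
      have : e * (N' + N') ≤ e * 2 := Nat.mul_le_mul_left _ (by omega)
      omega
    have : e * 4 ≤ e * (N' + N') := Nat.mul_le_mul_left _ (by omega)
    omega
  -- the centralizer is elementary abelian
  have hAsq : ∀ x : A, x * x = 1 := by
    refine sq_eq_one_of_many ?_
    have h1 : i + 1 ≤ Nat.card {x : A // x * x = 1} := by
      have : Nat.card (Option {y : G // orderOf y = 2 ∧ y * t = t * y}) = i + 1 := Finite.card_option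
      rw [← this]
      refine Nat.card_le_card_of_injective (fun o => o.elim ⟨1, one_mul 1⟩ fun y =>
        ⟨⟨y.1, Subgroup.mem_centralizer_singleton_iff.2 y.2.2⟩, Subtype.ext (by
          show y.1 * y.1 = 1
          exact mul_self_of_orderOf_two y.2.1)⟩) ?_
      rintro (_ | p) (_ | q) hpq
      · rfl
      · have := congrArg (fun z : {x : A // x * x = 1} => ((z.1 : A) : G)) hpq
        exact absurd q.2.1 (by simp only [Option.elim] at this; rw [← this]; simp)
      · have := congrArg (fun z : {x : A // x * x = 1} => ((z.1 : A) : G)) hpq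
        exact absurd p.2.1 (by simp only [Option.elim] at this; rw [this]; simp)
      · exact congrArg some (Subtype.ext (congrArg (fun z : {x : A // x * x = 1} => ((z.1 : A) : G)) hpq))
    rw [hAc]
    omega
  have hAinv : ∀ s ∈ A, s ≠ 1 → orderOf s = 2 := fun s hs hs1 => by
    refine orderOf_eq_prime ?_ hs1
    rw [pow_two]
    exact congrArg Subtype.val (hAsq ⟨s, hs⟩)
  have hAab : ∀ x y : A, x * y = y * x := fun x y => by
    rw [← inv_eq_of_mul_eq_one_right (hAsq (x * y)), mul_inv_rev, inv_eq_of_mul_eq_one_right (hAsq x),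
      inv_eq_of_mul_eq_one_right (hAsq y)]
  have hAcent : ∀ s ∈ A, s ≠ 1 → Subgroup.centralizer ({s} : Set G) = A := by
    intro s hs hs1
    refine (Subgroup.eq_of_le_of_card_ge (fun x hx => Subgroup.mem_centralizer_singleton_iff.2
      (congrArg Subtype.val (hAab ⟨x, hx⟩ ⟨s, hs⟩))) ?_).symm
    obtain ⟨g, hg⟩ := isConj_iff.1 ((hclass s).2 (hAinv s hs hs1))
    refine le_of_eq (Nat.card_congr ((MulAut.conj g⁻¹).toEquiv.subtypeEquiv fun x => ?_))
    show x ∈ Subgroup.centralizer ({s} : Set G) ↔ g⁻¹ * x * g⁻¹⁻¹ ∈ A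
    rw [hA, Subgroup.mem_centralizer_singleton_iff, Subgroup.mem_centralizer_singleton_iff, ← hg,
      show g⁻¹ * x * g⁻¹⁻¹ * t = g⁻¹ * (x * (g * t * g⁻¹)) * g by group,
      show t * (g⁻¹ * x * g⁻¹⁻¹) = g⁻¹ * (g * t * g⁻¹ * x) * g by group, mul_left_inj, mul_right_inj]
  -- the kernel normalizes it
  have hreg : ∀ c : Ω, ∃ s ∈ A, s • c = a := by
    intro c
    have hb : Function.Bijective (fun s : A => (s : G) • c) := by
      refine (Nat.bijective_iff_injective_and_card _).2 ⟨fun x y hxy => ?_, ?_⟩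
      · by_contra hne
        refine hfree ((x⁻¹ * y : A) : G) (hAinv _ (x⁻¹ * y : A).2 fun h0 => hne ?_) c ?_
        · exact inv_mul_eq_one.1 (Subtype.ext h0)
        · show ((x : G)⁻¹ * y) • c = c
          rw [mul_smul, ← show (x : G) • c = (y : G) • c from hxy, inv_smul_smul]
      · rw [hAc, Nat.card_eq_fintype_card]; exact P.card
    obtain ⟨s, hs⟩ := hb.2 a
    exact ⟨s, s.2, hs⟩
  set M := Subgroup.normalizer (A : Set G) ⊓ stabilizer G a with hM
  have htA : t ∈ A := Subgroup.mem_centralizer_singleton_iff.2 rfl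
  have ht1 : t ≠ 1 := fun h0 => by rw [h0, orderOf_one] at hto; omega
  have hMA : ∀ n : M, (n : G) * t * (n : G)⁻¹ ∈ A := fun n =>
    (Subgroup.mem_normalizer_iff.1 (Subgroup.mem_inf.1 n.2).1 t).1 htA
  have hMcard : Nat.card M = h := by
    have h1 : Function.Bijective (fun n : M => (⟨⟨_, hMA n⟩, fun h0 => ht1 (conj_eq_one_iff.1 (congrArg Subtype.val h0))⟩ :
        {s : A // s ≠ 1})) := by
      refine ⟨fun p q hpq => ?_, fun ⟨⟨s, hs⟩, hs1⟩ => ?_⟩
      · have h2 : (p : G) * t * (p : G)⁻¹ = (q : G) * t * (q : G)⁻¹ :=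
          congrArg (fun z : {s : A // s ≠ 1} => ((z.1 : A) : G)) hpq
        have h3 : (q : G)⁻¹ * p ∈ A := Subgroup.mem_centralizer_singleton_iff.2 (by
          calc (q : G)⁻¹ * p * t = (q : G)⁻¹ * ((p : G) * t * (p : G)⁻¹) * p := by group
            _ = _ := by rw [h2]; group)
        by_contra hne
        exact hfree _ (hAinv _ h3 fun h4 => hne (Subtype.ext (inv_mul_eq_one.1 h4).symm)) a
          (mul_mem (inv_mem (Subgroup.mem_inf.1 q.2).2) (Subgroup.mem_inf.1 p.2).2 : (q : G)⁻¹ * p ∈ stabilizer G a)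
      · have hs1' : s ≠ 1 := fun h0 => hs1 (Subtype.ext h0)
        obtain ⟨g, hg⟩ := isConj_iff.1 ((hclass s).2 (hAinv s hs hs1'))
        obtain ⟨u, huA, hu⟩ := hreg (g • a)
        have hn : (u * g) * t * (u * g)⁻¹ = s := by
          rw [show u * g * t * (u * g)⁻¹ = u * (g * t * g⁻¹) * u⁻¹ by group, hg,
            congrArg Subtype.val (hAab ⟨u, huA⟩ ⟨s, hs⟩) |> fun e' => (show u * s = s * u from e'), mul_inv_cancel_right]
        have hnA : u * g ∈ Subgroup.normalizer (A : Set G) := by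
          rw [Subgroup.mem_normalizer_iff]
          intro x
          conv_rhs => rw [← hAcent s hs hs1', Subgroup.mem_centralizer_singleton_iff, ← hn,
            show u * g * x * (u * g)⁻¹ * (u * g * t * (u * g)⁻¹) = u * g * (x * t) * (u * g)⁻¹ by group,
            show u * g * t * (u * g)⁻¹ * (u * g * x * (u * g)⁻¹) = u * g * (t * x) * (u * g)⁻¹ by group,
            mul_left_inj, mul_right_inj]
          exact Subgroup.mem_centralizer_singleton_iff
        exact ⟨⟨u * g, Subgroup.mem_inf.2 ⟨hnA, mem_stabilizer_iff.2 (by rw [mul_smul, hu])⟩⟩,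
          Subtype.ext (Subtype.ext hn)⟩
    rw [Nat.card_eq_of_bijective _ h1]
    haveI := Fintype.ofFinite A
    rw [Nat.card_eq_fintype_card, Fintype.card_subtype_compl, Fintype.card_subtype_eq, ← Nat.card_eq_fintype_card,
      hAc, Nat.add_sub_cancel]
  have hMH : H ≤ Subgroup.normalizer (A : Set G) := by
    have h1 : M ≤ H := P.le_kernel inf_le_right (by rw [hMcard]; exact P.coprime)
    rw [← Subgroup.eq_of_le_of_card_ge h1 hMcard.ge]
    exact inf_le_left
  have hfpf : CfsgLib.Coprime.IsFpfOn H A := fun u hu hu1 => by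
    rw [Subgroup.eq_bot_iff_forall]
    intro v hv
    by_contra hv1
    have h2 : u ∈ A := by
      rw [← hAcent v hv.1 hv1, Subgroup.mem_centralizer_singleton_iff]
      exact (Subgroup.mem_centralizer_singleton_iff.1 hv.2).symm
    exact hnoH u (hAinv u h2 hu1) hu
  have hA1 : A ≠ ⊥ := fun h0 => ht1 (Subgroup.mem_bot.1 (h0 ▸ htA))
  haveI : IsZGroup H := by
    refine ⟨fun p hp Q => ?_⟩
    haveI := Fact.mk hp
    refine (hfpf.sylow_cyclic_or_quaternion hMH hA1 Q).resolve_right ?_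
    rintro ⟨rfl, n, ⟨eQ⟩⟩
    haveI : NeZero ((2 : ℕ) ^ n) := ⟨by positivity⟩
    have h4 := Nat.card_congr eQ.toEquiv
    rw [Nat.card_eq_fintype_card (α := QuaternionGroup (2 ^ n)), QuaternionGroup.card] at h4
    exact Nat.not_even_iff_odd.2 hho (even_iff_two_dvd.2
      ((dvd_mul_of_dvd_left (by norm_num : 2 ∣ 4) _).trans
        (h4 ▸ Subgroup.card_subgroup_dvd_card (Q : Subgroup H))))
  haveI := P.nilpotent
  haveI : IsCyclic H := inferInstance
  letI := IsCyclic.commGroup (α := H)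
  exact hna fun x hx y hy => congrArg Subtype.val (mul_comm (⟨x, hx⟩ : H) ⟨y, hy⟩)

end Pt

end CfsgLib.Char.FeitZ
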