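import Cfsg.Agent.Lib.Char.ZassenhausKernel
import Cfsg.Agent.Lib.Char.FeitCoherence
import Cfsg.Agent.Lib.Perm.AbelianKernel.Closure

/-!
# The kernel of a point stabilizer of a Zassenhaus group as a TI subgroup
-/

set_option autoImplicit false
set_option linter.unusedSectionVars false
set_option linter.style.haveILetI false

namespace CfsgLib.Char.FeitZ

open Cfsg MulAction CfsgLib.Char CfsgLib.Char.ZassenhausOdd

variable {G Ω : Type*} [Group G] [Finite G] [MulAction G Ω] [Fintype Ω]
variable {a b : Ω} {H : Subgroup G}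

/-- The point data of a kernel. -/
structure Pt (G : Type*) [Group G] {Ω : Type*} [MulAction G Ω] [Fintype Ω] (a b : Ω) (H : Subgroup G) : Prop where
  zas : IsZassenhausGroup G Ω
  ne : a ≠ b
  le : H ≤ stabilizer G a
  card : Nat.card H + 1 = Fintype.card Ω
  fix : ∀ u ∈ H, u ≠ 1 → ∀ c : Ω, u • c = c → c = a
  odd : Odd (Nat.card (pairStab G a b))

namespace Pt

theorem normalizer_eq (P : Pt G a b H) : Subgroup.normalizer (H : Set G) = stabilizer G a :=
  (point_kernel_ti P.zas a H P.le P.card P.fix).2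

theorem card_stab (P : Pt G a b H) :
    Nat.card (stabilizer G a) = Nat.card H * Nat.card (pairStab G a b) := by
  rw [card_stabilizer_eq P.zas P.ne, ← P.card, Nat.add_sub_cancel]

theorem mem_of_fix_only (P : Pt G a b H) {x : G} (hxa : x • a = a) (hx : ∀ c : Ω, x • c = c → c = a) :
    x ∈ H := by
  classical
  by_contra hxH
  let T := {y : stabilizer G a // (y : G) ∉ H}
  let S := Σ c : {c : Ω // c ≠ a}, {y : pairStab G a (c : Ω) // y ≠ 1}
  let f : S → T := fun s => ⟨⟨(s.2.1 : G), s.2.1.2.1⟩, fun h => s.1.2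
    (P.fix _ h (fun e => s.2.2 (Subtype.ext e)) _ s.2.1.2.2)⟩
  have hf : Function.Injective f := by
    rintro ⟨⟨c, hc⟩, ⟨y, hy⟩, hy1⟩ ⟨⟨c', hc'⟩, ⟨y', hy'⟩, hy1'⟩ e
    have e' : y = y' := congrArg (fun z : T => ((z.1 : stabilizer G a) : G)) e
    subst e'
    have hy0 : y ≠ 1 := fun h => hy1 (Subtype.ext h)
    rcases fixed_eq_or P.zas hy0 (Ne.symm hc) hy.1 hy.2 hy'.2 with h | h
    · exact absurd h hc'
    · subst h; rfl
  have hcard : Nat.card S = Nat.card T := by
    have h1 : Nat.card S = Nat.card H * (Nat.card (pairStab G a b) - 1) := by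
      haveI := Fintype.ofFinite G
      rw [Nat.card_sigma, Finset.sum_congr rfl (g := fun _ => Nat.card (pairStab G a b) - 1) fun c _ => by
        rw [Nat.card_eq_fintype_card, Fintype.card_subtype_compl, Fintype.card_subtype_eq,
          ← Nat.card_eq_fintype_card, card_pairStab_eq P.zas P.ne (Ne.symm c.2)],
        Finset.sum_const, Finset.card_univ, smul_eq_mul, Fintype.card_subtype_compl, Fintype.card_subtype_eq,
        ← P.card, Nat.add_sub_cancel]
    have h2 : Nat.card T = Nat.card (stabilizer G a) - Nat.card H := by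
      haveI := Fintype.ofFinite (stabilizer G a)
      haveI := Fintype.ofFinite H
      rw [Nat.card_eq_fintype_card, Fintype.card_subtype_compl, Nat.card_eq_fintype_card,
        Nat.card_eq_fintype_card]
      congr 1
      exact Fintype.card_congr ⟨fun y => ⟨_, y.2⟩, fun y => ⟨⟨y.1, P.le y.2⟩, y.2⟩, fun _ => rfl, fun _ => rfl⟩
    rw [h1, h2, P.card_stab, Nat.mul_sub, mul_one]
  obtain ⟨⟨c, y, hy⟩, e⟩ := ((Nat.bijective_iff_injective_and_card f).2 ⟨hf, hcard⟩).2 ⟨⟨x, hxa⟩, hxH⟩
  have e' : (y : G) = x := congrArg (fun z : T => ((z.1 : stabilizer G a) : G)) e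
  exact c.2 (hx _ (e' ▸ y.2.2))

/-- Centralizers of non-identity elements of the kernel lie in the kernel. -/
theorem centralizer_le (P : Pt G a b H) :
    ∀ k ∈ H, k ≠ 1 → Subgroup.centralizer ({k} : Set G) ≤ H := by
  intro k hk hk1 x hx
  have hc : x * k = k * x := Subgroup.mem_centralizer_singleton_iff.1 hx
  have hka : k • a = a := P.le hk
  have hxa : x • a = a := P.fix k hk hk1 _ (by rw [← mul_smul, ← hc, mul_smul, hka])
  by_cases hx1 : x = 1
  · rw [hx1]; exact H.one_mem
  refine P.mem_of_fix_only hxa fun c hxc => ?_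
  by_contra hca
  have h : x • k • c = k • c := by rw [← mul_smul, hc, mul_smul, hxc]
  rcases fixed_eq_or P.zas hx1 (Ne.symm hca) hxa hxc h with e | e
  · exact hca (smul_left_cancel k (e.trans hka.symm))
  · exact hca (P.fix k hk hk1 c e)

theorem ne_bot (P : Pt G a b H) : H ≠ ⊥ := fun h => by
  have h3 := zassenhaus_three_le P.zas
  have := P.card
  rw [h, Subgroup.card_bot] at this
  omega

theorem card_kk (P : Pt G a b H) :
    Nat.card (H.subgroupOf (Subgroup.normalizer (H : Set G))) = Nat.card H :=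
  Nat.card_congr (Subgroup.subgroupOfEquivOfLe Subgroup.le_normalizer).toEquiv

theorem index_kk (P : Pt G a b H) :
    (H.subgroupOf (Subgroup.normalizer (H : Set G))).index = Nat.card (pairStab G a b) := by
  rw [← kernel_index P.zas P.ne P.le P.card P.fix, ← Subgroup.relIndex, ← Subgroup.relIndex, P.normalizer_eq]

theorem one_lt_pair (P : Pt G a b H) : 1 < Nat.card (pairStab G a b) :=
  (Subgroup.one_lt_card_iff_ne_bot _).2 (pairStab_ne_bot P.zas P.ne)

theorem lt_normalizer (P : Pt G a b H) : H < Subgroup.normalizer (H : Set G) := by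
  refine lt_of_le_of_ne Subgroup.le_normalizer fun h => ?_
  have h1 := P.index_kk
  have : (H.subgroupOf (Subgroup.normalizer (H : Set G))).index = 1 :=
    Subgroup.index_eq_one.2 (Subgroup.subgroupOf_eq_top.2 h.ge)
  have := P.one_lt_pair
  omega

theorem nilpotent (P : Pt G a b H) : Group.IsNilpotent H := by
  haveI := Fintype.ofFinite G
  haveI := Fintype.ofFinite (Subgroup.normalizer (H : Set G))
  haveI : (H.subgroupOf (Subgroup.normalizer (H : Set G))).Normal := Subgroup.normal_in_normalizer
  haveI := frobenius_kernel_nilpotent (H.subgroupOf (Subgroup.normalizer (H : Set G)))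
    (fun k hk hk1 x hx => P.centralizer_le (k : G) hk (fun h => hk1 (Subtype.ext h))
      (Subgroup.mem_centralizer_singleton_iff.2 (congrArg Subtype.val (Subgroup.mem_centralizer_singleton_iff.1 hx))))
    (fun h => P.lt_normalizer.not_ge (Subgroup.subgroupOf_eq_top.1 h))
  exact Group.nilpotent_of_mulEquiv (Subgroup.subgroupOfEquivOfLe Subgroup.le_normalizer)

/-- The coprimality of the kernel and the two-point stabilizer. -/
theorem coprime (P : Pt G a b H) : (Nat.card H).Coprime (Nat.card (pairStab G a b)) :=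
  ((isFpfOn_kernel P.ne P.zas P.le P.fix).coprime (inf_le_left.trans P.normalizer_eq.ge)).symm

theorem le_kernel (P : Pt G a b H) {B : Subgroup G} (hB : B ≤ stabilizer G a)
    (hcop : (Nat.card B).Coprime (Nat.card (pairStab G a b))) : B ≤ H := by
  haveI : (H.subgroupOf (stabilizer G a)).Normal := Subgroup.normal_subgroupOf_of_le_normalizer P.normalizer_eq.ge
  intro x hx
  have h1 : orderOf (QuotientGroup.mk' (H.subgroupOf (stabilizer G a)) ⟨x, hB hx⟩) ∣ Nat.card B := by
    refine (orderOf_map_dvd _ _).trans ?_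
    rw [Subgroup.orderOf_mk]
    exact Subgroup.orderOf_dvd_natCard B hx
  have h2 : orderOf (QuotientGroup.mk' (H.subgroupOf (stabilizer G a)) ⟨x, hB hx⟩) ∣ Nat.card (pairStab G a b) := by
    rw [← kernel_index P.zas P.ne P.le P.card P.fix, Subgroup.index_eq_card]
    exact orderOf_dvd_natCard _
  have := orderOf_eq_one_iff.1 (Nat.eq_one_of_dvd_coprimes hcop h1 h2)
  rw [QuotientGroup.mk'_apply, QuotientGroup.eq_one_iff] at this
  exact this

/-- With abelian kernel the degree is small. -/
theorem abelian_bound (P : Pt G a b H) (hc : ∀ u ∈ H, ∀ v ∈ H, u * v = v * u) :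
    Nat.card H ≤ 2 * Nat.card (pairStab G a b) + 1 := by
  classical
  haveI := P.zas.1
  obtain ⟨w, hwa, hwb⟩ := exists_map_pair P.zas P.ne P.ne.symm
  have hreg : ∀ y z : Ω, y ≠ a → z ≠ a → ∃! u : H, (u : G) • y = z := by
    intro y w hy hw
    have hne : ∀ u : H, (u : G) • y ≠ a := fun u e => hy (smul_left_cancel _
      (e.trans (P.le u.2 : (u : G) • a = a).symm))
    have hb : Function.Bijective (fun u : H => (⟨(u : G) • y, hne u⟩ : {x : Ω // x ≠ a})) := by
      refine (Nat.bijective_iff_injective_and_card _).2 ⟨fun u v e => ?_, ?_⟩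
      · by_contra huv
        have e' : (u : G) • y = (v : G) • y := congrArg Subtype.val e
        refine hy (P.fix (v⁻¹ * u : H) (v⁻¹ * u : H).2 (fun h => huv ?_) y ?_)
        · exact Subtype.ext (inv_mul_eq_one.1 h).symm
        · show ((v : G)⁻¹ * u) • y = y
          rw [mul_smul, e', inv_smul_smul]
      · rw [Nat.card_eq_fintype_card (α := {x : Ω // x ≠ a}), Fintype.card_subtype_compl, Fintype.card_subtype_eq]
        have := P.card
        omega
    obtain ⟨u, hu⟩ := hb.2 ⟨w, hw⟩
    exact ⟨u, congrArg Subtype.val hu, fun v hv => hb.1 (Subtype.ext (hv.trans (congrArg Subtype.val hu).symm))⟩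
  let D : CfsgLib.Perm.AbKernel.Data G a b :=
    { F := H, w := w, ne := P.ne, le := P.le
      normal := fun g hg u hu => (Subgroup.mem_normalizer_iff.1 (P.normalizer_eq.ge hg) u).1 hu
      comm := hc, reg := hreg
      fix := fun g h1 h2 c hca hcb h3 => P.zas.2.2.1 g a b c P.ne (Ne.symm hcb) (Ne.symm hca) h1 h2 h3
      wa := hwa, wb := hwb }
  rcases D.dichotomy ((Subgroup.one_lt_card_iff_ne_bot H).2 P.ne_bot) P.odd with ⟨K, hK, -, hKreg⟩ | ⟨-, h⟩
  · exfalso
    haveI : IsPretransitive K Ω := ⟨fun x y => (hKreg x y).exists⟩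
    obtain ⟨c, hcne⟩ := P.zas.2.2.2.2 K hK inferInstance
    refine hcne (eq_bot_iff.2 fun k hk => Subgroup.mem_bot.2 ?_)
    exact (hKreg c c).unique hk (one_smul K c)
  · exact h

end Pt

end CfsgLib.Char.FeitZ
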