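import Mathlib

/-!
# The arithmetic of the degree relations of a coherent kernel
-/

set_option autoImplicit false

namespace CfsgLib.Char.FeitZ

theorem slack {d r h j : ℤ} (hh : 2 ≤ h) (hd0 : 0 < d) (hj : 1 ≤ j) (hd : d - r = j * h) :
    0 ≤ d ^ 2 + (2 * h - 1) * r ^ 2 - h ^ 2 ∧
      (d ^ 2 + (2 * h - 1) * r ^ 2 - h ^ 2 = 0 → (r = 0 ∨ r = -1) ∧ d = h + r) := by
  rcases le_or_gt (h ^ 2) (r ^ 2) with hr | hr
  · have h1 : (2 * h - 1) * h ^ 2 ≤ (2 * h - 1) * r ^ 2 := mul_le_mul_of_nonneg_left hr (by linarith)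
    have h2 : (0 : ℤ) < d ^ 2 := by positivity
    refine ⟨by nlinarith, fun h0 => ?_⟩
    exfalso
    nlinarith
  · have hrh : -h < r := by nlinarith
    have hge : h + r ≤ d := by nlinarith
    have hrr : 0 ≤ r * (r + 1) := by
      rcases le_or_gt 0 r with h0 | h0
      · positivity
      · exact mul_nonneg_of_nonpos_of_nonpos h0.le (by omega)
    have h1 : (h + r) ^ 2 ≤ d ^ 2 := by nlinarith
    refine ⟨by nlinarith, fun h0 => ?_⟩
    have h2 : r * (r + 1) = 0 := by nlinarith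
    have h3 : d = h + r := by
      by_contra hne
      have : h + r + 1 ≤ d := by omega
      nlinarith
    rcases mul_eq_zero.1 h2 with h4 | h4
    · exact ⟨Or.inl h4, h3⟩
    · exact ⟨Or.inr (by omega), h3⟩

theorem rigid {ι : Type*} (R : Finset ι) (d r : ι → ℤ) {e f h N m D : ℤ}
    (he : e = 2 * f + 1) (hf : 1 ≤ f) (hN : 3 ≤ N) (hh : h = e * N + 1) (hR : f + 1 ≤ R.card)
    (hd : ∀ i ∈ R, 0 < d i ∧ ∃ j : ℤ, 1 ≤ j ∧ d i - r i = j * h)
    (hr : ∑ i ∈ R, r i ^ 2 = f - (m ^ 2 * N - 2 * m))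
    (hd2 : ∑ i ∈ R, d i ^ 2 + D ^ 2 * N = (h + 1) * h * e - 1 - f * (h + 1) ^ 2)
    (hm : ∃ j : ℤ, D - e - m = j * h) :
    m = 0 ∧ D = e ∧ (R.card : ℤ) = f + 1 ∧ ∀ i ∈ R, (r i = 0 ∨ r i = -1) ∧ d i = h + r i := by
  have hh2 : 2 ≤ h := by nlinarith
  have hs : ∀ i ∈ R, 0 ≤ d i ^ 2 + (2 * h - 1) * r i ^ 2 - h ^ 2 := fun i hi => by
    obtain ⟨h0, j, hj, hji⟩ := hd i hi
    exact (slack hh2 h0 hj hji).1
  have hsum : ∑ i ∈ R, (d i ^ 2 + (2 * h - 1) * r i ^ 2 - h ^ 2) =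
      (f + 1 - R.card) * h ^ 2 + e ^ 2 * N - D ^ 2 * N - (2 * h - 1) * (m ^ 2 * N - 2 * m) := by
    rw [Finset.sum_sub_distrib, Finset.sum_add_distrib, ← Finset.mul_sum, hr, Finset.sum_const, nsmul_eq_mul]
    subst hh he
    linear_combination hd2
  have hnn := Finset.sum_nonneg hs
  rw [hsum] at hnn
  have hq : m ^ 2 ≤ m ^ 2 * N - 2 * m := by nlinarith [mul_le_mul_of_nonneg_left hN (sq_nonneg m), sq_nonneg (m - 1)]
  have hc : (f + 1 - R.card) * h ^ 2 ≤ 0 := mul_nonpos_of_nonpos_of_nonneg (by linarith) (sq_nonneg h)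
  have hq0 : 0 ≤ m ^ 2 * N - 2 * m := le_trans (sq_nonneg m) hq
  have hD : D ^ 2 * N ≤ e ^ 2 * N := by nlinarith
  have hD' : D ^ 2 ≤ e ^ 2 := le_of_mul_le_mul_right hD (by linarith)
  have hqf : m ^ 2 * N - 2 * m ≤ f := by
    by_contra hlt
    have h1 : (e + 1) * (2 * h - 1) ≤ 2 * ((m ^ 2 * N - 2 * m) * (2 * h - 1)) := by
      rw [← mul_assoc]
      exact mul_le_mul_of_nonneg_right (by omega) (by linarith)
    nlinarith [mul_nonneg (sq_nonneg D) (by linarith : (0 : ℤ) ≤ N)]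
  have hD1 : -e ≤ D ∧ D ≤ e := abs_le_of_sq_le_sq' hD' (by linarith)
  have hm1 : -f ≤ m ∧ m ≤ f := by
    have : m ^ 2 ≤ f := le_trans hq hqf
    exact abs_le_of_sq_le_sq' (by nlinarith) (by linarith)
  have hDe : D = e + m := by
    obtain ⟨j, hj⟩ := hm
    have hbig : 3 * e + 1 ≤ h := by nlinarith
    rcases lt_trichotomy j 0 with hj0 | rfl | hj0
    · nlinarith
    · linarith
    · nlinarith
  subst hDe
  have hm0 : m = 0 := by
    have hm2 : m ≤ 0 := by linarith [hD1.2]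
    by_contra hne
    have : m ≤ -1 := by omega
    subst hh
    have e1 : (e + m) ^ 2 * N + (2 * (e * N + 1) - 1) * (m ^ 2 * N - 2 * m) - e ^ 2 * N =
        2 * (e * N + 1) * (-m) + 2 * m ^ 2 * N * (e * N + 1) := by ring
    have e2 : 0 < 2 * (e * N + 1) * (-m) := by
      have : 0 < e * N + 1 := by linarith
      exact mul_pos (by linarith) (by linarith)
    have e3 : 0 ≤ 2 * m ^ 2 * N * (e * N + 1) := by
      have : 0 ≤ e * N + 1 := by linarith
      have : 0 ≤ N := by linarith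
      positivity
    linarith
  subst hm0
  simp only [add_zero] at *
  have hcard : (R.card : ℤ) = f + 1 := by
    by_contra hne
    have : f + 2 ≤ (R.card : ℤ) := by omega
    nlinarith
  refine ⟨trivial, trivial, hcard, fun i hi => ?_⟩
  obtain ⟨h0, j, hj, hji⟩ := hd i hi
  refine (slack hh2 h0 hj hji).2 (le_antisymm ?_ (hs i hi))
  refine (Finset.single_le_sum hs hi).trans (le_of_eq ?_)
  rw [hsum, hcard]
  ring

end CfsgLib.Char.FeitZ
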