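import Cfsg.Agent.Lib.Char.FeitZassenhaus.Split
import Cfsg.Agent.Lib.Char.ClassMul

/-!
# Column relations for a coherent TI subgroup
-/

set_option autoImplicit false
set_option linter.unusedSectionVars false
set_option linter.style.haveILetI false

namespace CfsgLib.Char.FeitZ

open scoped ComplexConjugate Classical
open Cfsg CfsgLib.Char

universe u

variable {G : Type u} [Group G] [Fintype G] {H : Subgroup G} [Fintype (NN H)]
  [Fintype (IrrCharacter G)] [Fintype (IrrCharacter (NN H))]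

theorem nonexc_val {χ : IrrCharacter (NN H)} (h : χ ∉ excFin H) {k : NN H} (hk : k ∈ KK H) :
    (χ : NN H → ℂ) k = (χ : NN H → ℂ) 1 := by
  by_contra hne
  exact h (Finset.mem_filter.2 ⟨Finset.mem_univ _, k, hk, hne⟩)

/-- The degrees of the exceptional characters. -/
theorem exc_sum_deg (C : Coh H) :
    ∑ χ ∈ excFin H, (χ : NN H → ℂ) 1 ^ 2 = ((KK H).index : ℂ) * ((Nat.card (KK H) : ℂ) - 1) :=
  sum_sq_exceptional (KK H) (cent_KK C)

theorem nonexc_sum_deg (C : Coh H) :
    ∑ χ ∈ (excFin H)ᶜ, (χ : NN H → ℂ) 1 ^ 2 = ((KK H).index : ℂ) := by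
  have h := sum_degree_sq (G := NN H)
  rw [← Finset.sum_add_sum_compl (excFin H), exc_sum_deg C, ← (KK H).card_mul_index, Nat.cast_mul] at h
  linear_combination h

/-- The column of the identity against a non-identity element of the kernel. -/
theorem exc_sum_one (C : Coh H) {k : NN H} (hk : k ∈ KK H) (hk1 : k ≠ 1) :
    ∑ χ ∈ excFin H, (χ : NN H → ℂ) 1 * conj ((χ : NN H → ℂ) k) = -((KK H).index : ℂ) := by
  have h := sum_irr_mul_conj (1 : NN H) k
  rw [if_neg (by simpa [eq_comm] using hk1), ← Finset.sum_add_sum_compl (excFin H),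
    Finset.sum_congr rfl (g := fun χ : IrrCharacter (NN H) => (χ : NN H → ℂ) 1 ^ 2) (s₁ := (excFin H)ᶜ) fun χ hχ => by
      rw [nonexc_val (Finset.mem_compl.1 hχ) hk, conj_irr_one, sq], nonexc_sum_deg C] at h
  linear_combination h

theorem card_centralizer_eq (C : Coh H) {k : NN H} (hk : k ∈ KK H) (hk1 : k ≠ 1) :
    Nat.card (Subgroup.centralizer ({k} : Set (NN H))) = Nat.card (Subgroup.centralizer ({(k : G)} : Set G)) := by
  refine Nat.card_congr ⟨fun x => ⟨(x.1 : G), Subgroup.mem_centralizer_singleton_iff.2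
      (congrArg Subtype.val (Subgroup.mem_centralizer_singleton_iff.1 x.2))⟩,
    fun x => ⟨⟨x.1, Subgroup.le_normalizer (C.cent _ hk (fun h => hk1 (Subtype.ext h)) x.2)⟩,
      Subgroup.mem_centralizer_singleton_iff.2 (Subtype.ext (Subgroup.mem_centralizer_singleton_iff.1 x.2))⟩,
    fun x => rfl, fun x => rfl⟩

theorem exc_sum_norm (C : Coh H) {k : NN H} (hk : k ∈ KK H) (hk1 : k ≠ 1) :
    ∑ χ ∈ excFin H, (χ : NN H → ℂ) k * conj ((χ : NN H → ℂ) k) =
      (Nat.card (Subgroup.centralizer ({(k : G)} : Set G)) : ℂ) - (KK H).index := by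
  have h := sum_irr_mul_conj k k
  rw [if_pos (IsConj.refl k), ← Finset.sum_add_sum_compl (excFin H),
    Finset.sum_congr rfl (g := fun χ : IrrCharacter (NN H) => (χ : NN H → ℂ) 1 ^ 2) (s₁ := (excFin H)ᶜ) fun χ hχ => by
      rw [nonexc_val (Finset.mem_compl.1 hχ) hk, conj_irr_one, sq], nonexc_sum_deg C, card_centralizer_eq C hk hk1] at h
  linear_combination h

/-- The norm of a column at a non-identity element of the kernel. -/
theorem rel_norm (C : Coh H) {m : ℤ} (hm : ∀ χ ∈ excFin H, ∀ k : NN H, k ∈ KK H → k ≠ 1 →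
      C.star χ k = (χ : NN H → ℂ) k + (m : ℂ) * (χ : NN H → ℂ) 1 / ((KK H).index : ℂ))
    {N : ℕ} (hN : (KK H).index * N + 1 = Nat.card (KK H)) {k : NN H} (hk : k ∈ KK H) (hk1 : k ≠ 1) :
    ∑ ψ ∈ restFin H, (ψ : G → ℂ) k * conj ((ψ : G → ℂ) k) =
      ((KK H).index : ℂ) + 2 * m - (m : ℂ) ^ 2 * N := by
  have h := sum_irr_mul_conj (k : G) (k : G)
  rw [if_pos (IsConj.refl _), sum_split C (fun f => f k * conj (f k)) (fun f => by simp),
    Finset.sum_congr rfl (g := fun χ : IrrCharacter (NN H) => (χ : NN H → ℂ) k * conj ((χ : NN H → ℂ) k) +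
      ((m : ℂ) / ((KK H).index : ℂ)) * ((χ : NN H → ℂ) 1 * conj ((χ : NN H → ℂ) k)) +
      ((m : ℂ) / ((KK H).index : ℂ)) * conj ((χ : NN H → ℂ) 1 * conj ((χ : NN H → ℂ) k)) +
      ((m : ℂ) / ((KK H).index : ℂ)) ^ 2 * (χ : NN H → ℂ) 1 ^ 2) fun χ hχ => by
        rw [hm χ hχ k hk hk1, map_add, map_mul, Complex.conj_conj, map_div₀, map_mul, map_intCast,
          map_natCast, conj_irr_one]
        ring,
    Finset.sum_add_distrib, Finset.sum_add_distrib, Finset.sum_add_distrib, ← Finset.mul_sum, ← Finset.mul_sum,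
    ← Finset.mul_sum, ← map_sum, exc_sum_one C hk hk1, exc_sum_norm C hk hk1, exc_sum_deg C, map_neg, map_natCast] at h
  have hi : ((KK H).index : ℂ) ≠ 0 := Nat.cast_ne_zero.2 Subgroup.index_ne_zero_of_finite
  have hN' : ((KK H).index : ℂ) * N + 1 = Nat.card (KK H) := by exact_mod_cast hN
  rw [← hN'] at h
  field_simp at h
  refine mul_right_cancel₀ hi ?_
  linear_combination h

/-- The sum of the squared degrees. -/
theorem rel_degree (C : Coh H) {χ₀ : IrrCharacter (NN H)} (hχ₀ : χ₀ ∈ excFin H)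
    (h0 : (χ₀ : NN H → ℂ) 1 = ((KK H).index : ℂ)) {D : ℤ} (hD : C.star χ₀ 1 = D)
    {N : ℕ} (hN : (KK H).index * N + 1 = Nat.card (KK H)) :
    (∑ ψ ∈ restFin H, (ψ : G → ℂ) 1 ^ 2) + (D : ℂ) ^ 2 * N = (Nat.card G : ℂ) := by
  have hi : ((KK H).index : ℂ) ≠ 0 := Nat.cast_ne_zero.2 Subgroup.index_ne_zero_of_finite
  have h := sum_degree_sq (G := G)
  rw [sum_split C (fun f => f 1 ^ 2) (fun f => by simp),
    Finset.sum_congr rfl (g := fun χ : IrrCharacter (NN H) => ((D : ℂ) / ((KK H).index : ℂ)) ^ 2 * (χ : NN H → ℂ) 1 ^ 2)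
      fun χ hχ => by
        have := exc_degree C hχ hχ₀
        rw [h0, hD] at this
        rw [← mul_pow]
        congr 1
        rw [div_mul_eq_mul_div, eq_div_iff hi]
        linear_combination this,
    ← Finset.mul_sum, exc_sum_deg C] at h
  have hN' : ((KK H).index : ℂ) * N + 1 = Nat.card (KK H) := by exact_mod_cast hN
  rw [← hN'] at h
  rw [← h]
  field_simp
  ring

/-- When the correction vanishes, sums of products of three values agree with those in the normaliser. -/
theorem rel_triple (C : Coh H) (h1 : ∀ χ ∈ excFin H, C.star χ 1 = (χ : NN H → ℂ) 1)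
    (hv : ∀ χ ∈ excFin H, ∀ k : NN H, k ∈ KK H → k ≠ 1 → C.star χ k = (χ : NN H → ℂ) k)
    {t c : NN H} (ht : t ∈ KK H) (ht1 : t ≠ 1) (hc : c ∈ KK H) (hc1 : c ≠ 1)
    (hG : classConst (t : G) (t : G) (c : G) = 0) (hL : classConst t t c = 0) :
    ∑ ψ ∈ restFin H, (ψ : G → ℂ) t * (ψ : G → ℂ) t * conj ((ψ : G → ℂ) c) / (ψ : G → ℂ) 1 =
      ((KK H).index : ℂ) := by
  have hG' := classConst_formula (t : G) (t : G) (c : G)
  have hL' := classConst_formula t t c
  have hne : ∀ {X : Type u} [Group X] [Finite X] (x : X), (Nat.card {y : X // IsConj x y} : ℂ) ≠ 0 := fun x =>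
    Nat.cast_ne_zero.2 (Nat.card_pos_iff.2 ⟨⟨⟨x, IsConj.refl x⟩⟩, inferInstance⟩).ne'
  rw [hG, Nat.cast_zero, eq_comm, mul_eq_zero, div_eq_zero_iff, or_iff_right (by simp [hne, card_ne_zero']),
    finsum_eq_sum_of_fintype,
    sum_split C (fun f => f t * f t * conj (f c) / f 1) (fun f => by simp [neg_div_neg_eq])] at hG'
  rw [hL, Nat.cast_zero, eq_comm, mul_eq_zero, div_eq_zero_iff, or_iff_right (by rintro (h | h); exacts [mul_ne_zero (hne t) (hne t) h, card_ne_zero' h]),
    finsum_eq_sum_of_fintype, ← Finset.sum_add_sum_compl (excFin H),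
    Finset.sum_congr rfl (g := fun χ : IrrCharacter (NN H) => (χ : NN H → ℂ) 1 ^ 2) (s₁ := (excFin H)ᶜ) fun χ hχ => by
      rw [nonexc_val (Finset.mem_compl.1 hχ) hc, nonexc_val (Finset.mem_compl.1 hχ) ht, conj_irr_one,
        mul_div_assoc, div_self (irr_one_ne_zero χ), mul_one, sq], nonexc_sum_deg C] at hL'
  rw [Finset.sum_congr rfl fun χ hχ => by rw [h1 χ hχ, hv χ hχ t ht ht1, hv χ hχ c hc hc1]] at hG'
  linear_combination hG' - hL'

/-- The classes avoiding the subgroup are bounded by the characters constant on it. -/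
theorem card_avoid_lt (C : Coh H) (hH : H ≠ ⊥) :
    Nat.card {A : ConjClasses G // ∀ g : G, ConjClasses.mk g = A → g ∉ H} + 1 ≤ (restFin H).card := by
  haveI : Fintype (KK H) := Fintype.ofFinite _
  set AV := {A : ConjClasses G // ∀ g : G, ConjClasses.mk g = A → g ∉ H} with hAV
  haveI : Fintype AV := Fintype.ofFinite _
  obtain ⟨u₀, hu₀, hu₀1⟩ : ∃ u ∈ H, u ≠ 1 := by
    obtain ⟨⟨u, hu⟩, hne⟩ := Subgroup.ne_bot_iff_exists_ne_one.1 hH
    exact ⟨u, hu, fun h => hne (Subtype.ext h)⟩
  obtain ⟨a, ha, -⟩ := C.two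
  let χ₀ : IrrCharacter (NN H) := ⟨a, ha.1⟩
  have hχ₀ : χ₀ ∈ excFin H := mem_excFin.2 ha
  let P : G → ℂ := ∑ χ ∈ excFin H, (χ : NN H → ℂ) 1 • C.star χ
  let reps : Option (Option AV) → G := fun o => o.elim 1 (fun o' => o'.elim u₀ fun A => A.1.out)
  let fam : Option {ψ : IrrCharacter G // ψ ∈ restFin H} → G → ℂ := fun o => o.elim P fun ψ => (ψ.1 : G → ℂ)
  let Φ : (Option {ψ : IrrCharacter G // ψ ∈ restFin H} → ℂ) →ₗ[ℂ] (Option (Option AV) → ℂ) :=
    { toFun := fun c o => ∑ i, c i * fam i (reps o)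
      map_add' := fun c c' => funext fun o => by simp [add_mul, Finset.sum_add_distrib]
      map_smul' := fun z c => funext fun o => by simp [mul_add, Finset.mul_sum, mul_assoc] }
  have hmk : ∀ A : AV, ConjClasses.mk A.1.out = A.1 := fun A => Quotient.out_eq _
  have hsurj : Function.Surjective Φ := by
    intro v
    let F : ConjClasses G → ℂ := fun A => if A = ConjClasses.mk 1 then v none else
      if hA : ∀ g : G, ConjClasses.mk g = A → g ∉ H then v (some (some ⟨A, hA⟩)) else v (some none)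
    let f : G → ℂ := fun g => F (ConjClasses.mk g)
    have hf : IsClassFunction G f := fun x y => by
      show F _ = F _
      rw [ConjClasses.mk_eq_mk_iff_isConj.2 (isConj_iff.2 ⟨y, rfl⟩).symm]
    have hf1 : f 1 = v none := if_pos rfl
    have hfH : ∀ g ∈ H, g ≠ 1 → f g = v (some none) := by
      intro g hg hg1
      show F _ = _
      have h1 : ConjClasses.mk g ≠ ConjClasses.mk (1 : G) := fun h => hg1 (by
        simpa using ConjClasses.mk_eq_mk_iff_isConj.1 h)
      simp only [F, if_neg h1, dif_neg (fun h : ∀ g' : G, ConjClasses.mk g' = ConjClasses.mk g → g' ∉ H => h g rfl hg)]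
    have hfA : ∀ A : AV, f A.1.out = v (some (some A)) := by
      intro A
      show F _ = _
      have h1 : A.1 ≠ ConjClasses.mk (1 : G) := fun h => A.2 1 h.symm H.one_mem
      rw [hmk]
      show (if _ then _ else _) = _
      rw [if_neg h1, dif_pos A.2]
    have hprop : ∀ χ ∈ excFin H, classInner f (C.star χ) =
        (χ : NN H → ℂ) 1 / (χ₀ : NN H → ℂ) 1 * classInner f (C.star χ₀) := by
      intro χ hχ
      have hα := alpha_mem H (mem_excFin.1 hχ₀) (mem_excFin.1 hχ)
      have hzero : classInner f (C.star ((χ : NN H → ℂ) 1 • (χ₀ : NN H → ℂ) - (χ₀ : NN H → ℂ) 1 • (χ : NN H → ℂ))) = 0 := by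
        rw [C.ext _ hα, classInner_indFun_right _ _ f hf]
        have hK : ∀ x : KK H, (x : NN H) ≠ 1 → f (x : NN H) = v (some none) := fun x hx =>
          hfH _ x.2 fun h => hx (Subtype.ext h)
        set α := (χ : NN H → ℂ) 1 • (χ₀ : NN H → ℂ) - (χ₀ : NN H → ℂ) 1 • (χ : NN H → ℂ) with hαd
        have hαout : ∀ x : NN H, x ∉ KK H → α x = 0 := fun x hx => by
          rw [hαd]; simp [exc_vanish C hχ hx, exc_vanish C hχ₀ hx]
        have hα1 : α 1 = 0 := by rw [hαd]; simp [mul_comm]
        have hsum : ∑ x : KK H, α x = 0 := by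
          rw [hαd]
          simp only [Pi.sub_apply, Pi.smul_apply, smul_eq_mul, Finset.sum_sub_distrib, ← Finset.mul_sum]
          rw [sum_subgroup_eq_zero_of_nonconst (KK H) (cent_KK C) χ.2 (Finset.mem_filter.1 hχ).2,
            sum_subgroup_eq_zero_of_nonconst (KK H) (cent_KK C) χ₀.2 (Finset.mem_filter.1 hχ₀).2]
          ring
        have hfull : ∑ x : NN H, α x = 0 := by
          rw [← hsum, ← Finset.sum_subset (Finset.subset_univ (Finset.univ.filter fun x : NN H => x ∈ KK H))
            fun x _ hx => hαout x (by simpa using hx)]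
          exact Finset.sum_subtype _ (fun x => by simp) _
        rw [classInner, Finset.sum_congr rfl (g := fun x => v (some none) * conj (α x)) fun x _ => ?_,
          ← Finset.mul_sum, ← map_sum, hfull, map_zero, mul_zero, mul_zero]
        by_cases hx : x ∈ KK H
        · by_cases hx1 : x = 1
          · rw [hx1, hα1, map_zero, mul_zero, mul_zero]
          · rw [show f (x : G) = v (some none) from hK ⟨x, hx⟩ hx1]
        · rw [hαout x hx, map_zero, mul_zero, mul_zero]
      rw [star_alpha H C.star C.iso (mem_excFin.1 hχ₀) (mem_excFin.1 hχ), classInner_sub_right,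
        classInner_smul_right, classInner_smul_right, conj_irr_one, conj_irr_one, sub_eq_zero] at hzero
      have h0 := irr_one_ne_zero χ₀
      field_simp
      linear_combination -hzero
    refine ⟨fun o => o.elim (classInner f (C.star χ₀) / (χ₀ : NN H → ℂ) 1) fun ψ => classInner f (ψ.1 : G → ℂ),
      funext fun o => ?_⟩
    have hexp : f (reps o) = ∑ ψ : IrrCharacter G, classInner f (ψ : G → ℂ) * (ψ : G → ℂ) (reps o) := by
      conv_lhs => rw [classFun_expand hf]
      simp [Finset.sum_apply]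
    have hv : f (reps o) = v o := by
      rcases o with _ | _ | A
      · exact hf1
      · exact hfH u₀ hu₀ hu₀1
      · exact hfA A
    show ∑ i, _ * fam i (reps o) = v o
    rw [← hv, hexp, sum_split C (fun g => classInner f g * g (reps o)) (fun g => by simp [classInner_neg_right]),
      Fintype.sum_option, ← Finset.sum_coe_sort (restFin H)]
    congr 1
    simp only [Option.elim_none, fam, P, Finset.sum_apply, Pi.smul_apply, smul_eq_mul, Finset.mul_sum]
    exact Finset.sum_congr rfl fun χ hχ => by rw [hprop χ hχ]; ring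
  have h := LinearMap.finrank_range_le Φ
  rw [LinearMap.range_eq_top.2 hsurj, finrank_top, Module.finrank_fintype_fun_eq_card,
    Module.finrank_fintype_fun_eq_card, Fintype.card_option, Fintype.card_option, Fintype.card_option,
    Fintype.card_coe, ← Nat.card_eq_fintype_card] at h
  omega

end CfsgLib.Char.FeitZ
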