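import Cfsg.Agent.Lib.Char.FeitZassenhaus.Relations
import Cfsg.Agent.Lib.Char.FeitZassenhaus.Kernel
import Cfsg.Agent.Lib.Char.FeitZassenhaus.Numeric
import Cfsg.Agent.Lib.Char.ZassenhausInduced
import Cfsg.Agent.Lib.Char.FeitSibley

/-!
# The characters constant on the kernel of a simple Zassenhaus group with coherent kernel
-/

set_option autoImplicit false
set_option linter.unusedSectionVars false
set_option linter.style.haveILetI false

namespace CfsgLib.Char.FeitZ

open scoped ComplexConjugate Classical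
open Cfsg MulAction CfsgLib.Char CfsgLib.Char.ZassenhausOdd

universe u v

variable {G : Type u} {Ω : Type v} [Group G] [Fintype G] [MulAction G Ω] [Fintype Ω]
variable {a b : Ω} {H : Subgroup G}

namespace Pt

/-- Either the exception of Feit and Sibley or a coherent kernel. -/
theorem exists_coh (P : Pt G a b H) [Fintype (NN H)]
    (hlt : 2 * Nat.card (pairStab G a b) + 1 < Nat.card H) :
    (¬ IsMulCommutative H ∧ IsPGroup 2 H ∧
      (⁅H, H⁆.subgroupOf H).index < 4 * Nat.card (pairStab G a b) ^ 2) ∨ Nonempty (Coh H) := by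
  have hti : IsTISubset (H : Set G) := fun g hg x hx hy =>
    (point_kernel_ti P.zas a H P.le P.card P.fix).1 g (fun h => hg (P.normalizer_eq.ge h)) x hx hy
  rcases feit_sibley H P.ne_bot P.nilpotent hti P.lt_normalizer P.centralizer_le with
    ⟨-, hc, -⟩ | ⟨h1, h2, -, h3⟩ | ⟨⟨α, hα, hα0⟩, τ, hτ, hext⟩
  · exfalso
    rw [P.index_kk] at hc
    omega
  · rw [P.index_kk] at h3
    exact Or.inl ⟨h1, h2, h3⟩
  refine Or.inr ⟨⟨fun g hg k hk hy => hti g hg k hk hy, P.centralizer_le, τ, hτ, hext, ?_⟩⟩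
  by_contra hno
  push Not at hno
  apply hα0
  by_cases hne : (ExcSet H).Nonempty
  · obtain ⟨χ, hχ⟩ := hne
    have hsub : ExcSet H ⊆ {χ} := fun ξ hξ => hno ξ hξ χ hχ
    have h1 := Submodule.span_mono (R := ℤ) hsub hα.1
    obtain ⟨n, rfl⟩ := Submodule.mem_span_singleton.1 h1
    have h2 := hα.2 1 (by simp)
    obtain ⟨d, hd0, hd⟩ := isIrrCharacter_degree hχ.1
    rw [Pi.smul_apply, hd, zsmul_eq_mul, mul_eq_zero, Int.cast_eq_zero, Nat.cast_eq_zero] at h2
    rw [h2.resolve_right hd0.ne', zero_smul]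
  · have h1 := hα.1
    rw [Set.not_nonempty_iff_eq_empty] at hne
    have h2 : α ∈ Submodule.span ℤ (∅ : Set (NN H → ℂ)) := hne ▸ h1
    rwa [Submodule.span_empty, Submodule.mem_bot] at h2

variable [Fintype (NN H)] [Fintype (IrrCharacter (NN H))] [Fintype (IrrCharacter G)]

/-- An exceptional character of least degree. -/
theorem exists_exc_linear (P : Pt G a b H) :
    ∃ χ ∈ excFin H, (χ : NN H → ℂ) 1 = ((KK H).index : ℂ) := by
  haveI := P.nilpotent
  haveI : Nontrivial H := (Subgroup.nontrivial_iff_ne_bot H).2 P.ne_bot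
  let e : KK H ≃* H := Subgroup.subgroupOfEquivOfLe Subgroup.le_normalizer
  haveI : Nontrivial (KK H) := e.toEquiv.nontrivial
  haveI : Group.IsNilpotent (KK H) := Group.nilpotent_of_mulEquiv e.symm
  haveI : Fintype (KK H) := Fintype.ofFinite _
  have hC : ∀ k ∈ KK H, k ≠ 1 → Subgroup.centralizer ({k} : Set (NN H)) ≤ KK H :=
    (exc_data H P.centralizer_le).1
  have h1 : 1 < Nat.card {χ : IrrCharacter (KK H) // (χ : KK H → ℂ) 1 = 1} := by
    rw [card_linear]
    have h2 : (commutator (KK H)).index ≠ 1 := fun h =>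
      (IsSolvable.commutator_lt_top_of_nontrivial (KK H)).ne (Subgroup.index_eq_one.1 h)
    have h3 : (commutator (KK H)).index ≠ 0 := Subgroup.index_ne_zero_of_finite
    omega
  haveI := Finite.one_lt_card_iff_nontrivial.1 h1
  obtain ⟨⟨θ, hθ⟩, hne⟩ := exists_ne (⟨⟨_, isIrrCharacter_one⟩, rfl⟩ : {χ : IrrCharacter (KK H) // (χ : KK H → ℂ) 1 = 1})
  have hmem : indFun (KK H) (θ : KK H → ℂ) ∈ inducedIrrAbove (KK H) ⊥ :=
    ⟨θ, θ.2, fun h => hne (Subtype.ext (Subtype.ext h)), fun a ha => by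
      rw [Subgroup.mem_bot] at ha
      rw [show a = 1 from Subtype.ext ha], rfl⟩
  have hirr := isIrr_inducedIrrAbove (KK H) hC hmem
  refine ⟨⟨_, hirr⟩, ?_, ?_⟩
  · rw [inducedIrrAbove_bot_eq (KK H) hC] at hmem
    obtain ⟨-, k, hk, hne'⟩ := hmem
    exact mem_excFin.2 ⟨hirr, k, hk, hne'⟩
  · show indFun (KK H) (θ : KK H → ℂ) 1 = _
    rw [indFun_one, hθ, mul_one]

/-- Enough characters of degree one more than the order of the kernel, equal to one on it. -/
theorem exists_induced (P : Pt G a b H) [IsSimpleGroup G] {f : ℕ}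
    (hf : Nat.card (pairStab G a b) = 2 * f + 1) :
    ∃ I : Finset (IrrCharacter G), I.card = f ∧ ∀ ψ ∈ I, (ψ : G → ℂ) 1 = (Nat.card H : ℂ) + 1 ∧
      ∀ k ∈ H, k ≠ 1 → (ψ : G → ℂ) k = 1 := by
  haveI hn : (H.subgroupOf (stabilizer G a)).Normal :=
    Subgroup.normal_subgroupOf_of_le_normalizer P.normalizer_eq.ge
  set K := stabilizer G a with hK
  set HK := H.subgroupOf K with hHK
  have hc := isComplement_kernel P.zas P.ne P.le P.card P.fix
  have hEcomm : ∀ x ∈ pairStab G a b, ∀ y ∈ pairStab G a b, x * y = y * x := by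
    obtain ⟨w, hwa, hwb⟩ := exists_map_pair P.zas P.ne P.ne.symm
    obtain ⟨hinv, -⟩ := swap_inverts P.zas P.ne P.odd hwa hwb
    intro x hx y hy
    have h := hinv _ (mul_mem hx hy)
    rw [show w⁻¹ * (x * y) * w = (w⁻¹ * x * w) * (w⁻¹ * y * w) by group, hinv x hx, hinv y hy, ← mul_inv_rev,
      inv_inj] at h
    exact h.symm
  letI : CommGroup (K ⧸ HK) :=
    { (inferInstance : Group (K ⧸ HK)) with
      mul_comm := fun x y => hc.QuotientMulEquiv.injective (by
        rw [map_mul, map_mul]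
        exact Subtype.ext (Subtype.ext (hEcomm _ (hc.QuotientMulEquiv x).2 _ (hc.QuotientMulEquiv y).2))) }
  set e := Nat.card (pairStab G a b) with he
  have hQ : Nat.card (K ⧸ HK) = e := by
    rw [← Subgroup.index_eq_card, kernel_index P.zas P.ne P.le P.card P.fix]
  haveI : Fintype ((K ⧸ HK) →* ℂˣ) := Fintype.ofFinite _
  haveI : Fintype (K ⧸ HK) := Fintype.ofFinite _
  haveI : Fintype K := Fintype.ofFinite _
  haveI : Fintype HK := Fintype.ofFinite _
  have hM : Fintype.card ((K ⧸ HK) →* ℂˣ) = e := by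
    rw [← Nat.card_eq_fintype_card, CommGroup.card_monoidHom_of_hasEnoughRootsOfUnity, hQ]
  let μ : ((K ⧸ HK) →* ℂˣ) → K → ℂ := fun φ x => ((φ.comp (QuotientGroup.mk' HK)) x : ℂ)
  have hμirr : ∀ φ, IsIrrCharacter K (μ φ) := fun φ => isIrrCharacter_lin _
  have hind : ∀ φ, φ ≠ 1 → IsIrrCharacter G (indFun K (μ φ)) ∧
      (∀ k ∈ H, k ≠ 1 → indFun K (μ φ) k = 1) ∧ indFun K (μ φ) 1 = (Nat.card H : ℂ) + 1 := by
    intro φ hφ
    have h1 : μ φ 1 = 1 := by simp [μ]
    have hne : μ φ ≠ fun _ => 1 := fun h => hφ (MonoidHom.ext fun q => by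
      obtain ⟨x, rfl⟩ := QuotientGroup.mk'_surjective HK q
      exact Units.ext (congrFun h x))
    obtain ⟨i1, i2⟩ := induced_linear_irr P.zas P.ne P.odd P.le P.card P.fix
      (isCharacter_of_isIrr (hμirr φ)) h1
      (fun u hu => by
        show ((φ (QuotientGroup.mk' HK u) : ℂˣ) : ℂ) = 1
        rw [show QuotientGroup.mk' HK u = 1 from (QuotientGroup.eq_one_iff u).2 hu, map_one, Units.val_one])
      hne
    refine ⟨i1, i2, ?_⟩
    haveI := isPretransitive_of P.zas
    rw [indFun_one, h1, mul_one, hK, index_stabilizer_of_transitive, Nat.card_eq_fintype_card, ← P.card]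
    push_cast
    rfl
  let S : Finset ((K ⧸ HK) →* ℂˣ) := Finset.univ.erase 1
  let ψf : S → IrrCharacter G := fun φ => ⟨_, (hind φ.1 (Finset.ne_of_mem_erase φ.2)).1⟩
  have hfib : ∀ ψ ∈ S.attach.image ψf, (S.attach.filter fun φ => ψf φ = ψ).card ≤ 2 := by
    intro ψ hψ
    obtain ⟨φ₀, -, rfl⟩ := Finset.mem_image.1 hψ
    obtain ⟨hi, hiH, hi1⟩ := hind φ₀.1 (Finset.ne_of_mem_erase φ₀.2)
    set g : K → ℂ := fun x => indFun K (μ φ₀.1) x with hg
    have hgc : IsCharacter K g := isCharacter_comp (isCharacter_of_isIrr hi) K.subtype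
    choose n hn using fun φ => classInner_isCharacter hgc (isCharacter_of_isIrr (hμirr φ))
    have horth : ∀ q : K ⧸ HK, q ≠ 1 → ∑ φ : (K ⧸ HK) →* ℂˣ, conj ((φ q : ℂˣ) : ℂ) = 0 := by
      intro q hq
      obtain ⟨ψ₀, hψ₀⟩ := CommGroup.exists_apply_ne_one_of_hasEnoughRootsOfUnity (K ⧸ HK) ℂ hq
      have h := Equiv.sum_comp (Equiv.mulLeft ψ₀) fun φ : (K ⧸ HK) →* ℂˣ => conj ((φ q : ℂˣ) : ℂ)
      simp only [Equiv.coe_mulLeft, MonoidHom.mul_apply, Units.val_mul, map_mul] at h
      rw [← Finset.mul_sum] at h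
      by_contra h0
      refine hψ₀ (Units.ext ((starRingEnd ℂ).injective ?_))
      rw [Units.val_one, map_one]
      exact (mul_eq_right₀ h0).1 h
    have hin : ∀ x : K, ∑ φ, g x * conj (μ φ x) = if x ∈ HK then (e : ℂ) * g x else 0 := by
      intro x
      rw [← Finset.mul_sum]
      split_ifs with hx
      · rw [Finset.sum_congr rfl (g := fun _ => (1 : ℂ)) fun φ _ => by
          show conj ((φ (QuotientGroup.mk' HK x) : ℂˣ) : ℂ) = 1
          rw [show QuotientGroup.mk' HK x = 1 from (QuotientGroup.eq_one_iff x).2 hx, map_one, Units.val_one, map_one],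
          Finset.sum_const, Finset.card_univ, hM, nsmul_eq_mul, mul_one, mul_comm]
      · rw [show ∑ φ, conj (μ φ x) = 0 from horth _ fun h => hx ((QuotientGroup.eq_one_iff x).1 h), mul_zero]
    have hsum : ∑ φ, classInner g (μ φ) = 2 := by
      simp only [classInner]
      rw [← Finset.mul_sum, Finset.sum_comm, Finset.sum_congr rfl fun x _ => hin x, ← Finset.sum_filter,
        Finset.sum_subtype (p := fun x => x ∈ HK) _ (fun x => by simp),
        ← Finset.add_sum_erase _ _ (Finset.mem_univ (1 : HK)),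
        Finset.sum_congr rfl (g := fun _ : HK => (e : ℂ)) fun x hx => by
          rw [show g x = 1 from hiH _ x.2 fun h => (Finset.mem_erase.1 hx).1 (Subtype.ext (Subtype.ext h)), mul_one],
        Finset.sum_const, Finset.card_erase_of_mem (Finset.mem_univ _), Finset.card_univ,
        ← Nat.card_eq_fintype_card, Nat.card_congr (Subgroup.subgroupOfEquivOfLe P.le).toEquiv,
        show g ((1 : HK) : K) = (Nat.card H : ℂ) + 1 from hi1, nsmul_eq_mul, P.card_stab, Nat.cast_mul,
        Nat.cast_sub Nat.card_pos, Nat.cast_one]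
      have h1 : (Nat.card H : ℂ) ≠ 0 := card_ne_zero'
      have h2 : (e : ℂ) ≠ 0 := card_ne_zero'
      rw [← he]
      field_simp
      ring
    have hsum' : ∑ φ, n φ = 2 := by
      have : ((∑ φ, n φ : ℕ) : ℂ) = 2 := by rw [Nat.cast_sum, ← hsum]; exact Finset.sum_congr rfl fun φ _ => (hn φ).symm
      exact_mod_cast this
    calc (S.attach.filter fun φ => ψf φ = ψf φ₀).card
        = ∑ φ ∈ S.attach.filter (fun φ => ψf φ = ψf φ₀), n φ.1 := by
          rw [Finset.card_eq_sum_ones]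
          refine Finset.sum_congr rfl fun φ hφ => ?_
          have e1 : indFun K (μ φ.1) = indFun K (μ φ₀.1) := congrArg Subtype.val (Finset.mem_filter.1 hφ).2
          have h := classInner_indFun_right K (μ φ.1) _ (isClassFunction_irr ⟨_, hi⟩)
          rw [e1, classInner_irr_self (⟨_, hi⟩ : IrrCharacter G), hn] at h
          exact_mod_cast h
      _ ≤ ∑ φ ∈ S.attach, n φ.1 := Finset.sum_le_sum_of_subset (Finset.filter_subset _ _)
      _ = ∑ φ ∈ S, n φ := Finset.sum_attach S n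
      _ ≤ ∑ φ, n φ := Finset.sum_le_sum_of_subset (Finset.subset_univ _)
      _ = 2 := hsum'
  have hcard : f ≤ (S.attach.image ψf).card := by
    have h := Finset.card_le_mul_card_image S.attach 2 hfib
    rw [Finset.card_attach, Finset.card_erase_of_mem (Finset.mem_univ _), Finset.card_univ, hM, hf] at h
    omega
  obtain ⟨I, hI, hIc⟩ := Finset.exists_subset_card_eq hcard
  refine ⟨I, hIc, fun ψ hψ => ?_⟩
  obtain ⟨φ, -, rfl⟩ := Finset.mem_image.1 (hI hψ)
  exact ⟨(hind φ.1 (Finset.ne_of_mem_erase φ.2)).2.2, (hind φ.1 (Finset.ne_of_mem_erase φ.2)).2.1⟩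

/-- A character which is constant on the kernel including the identity is principal. -/
theorem eq_one_of_const (P : Pt G a b H) [IsSimpleGroup G] {ψ : IrrCharacter G}
    (h : ∀ k ∈ H, (ψ : G → ℂ) k = (ψ : G → ℂ) 1) : ψ = ⟨_, isIrrCharacter_one⟩ := by
  obtain ⟨n, ρ, hρ, hψ⟩ := ψ.2
  have hker : ∀ g : G, g ∈ ρ.ker := by
    have hle : H ≤ ρ.ker := fun k hk => MonoidHom.mem_ker.2 ((char_eq_degree_iff ρ k).1 (by
      rw [← Representation.char_one ρ, hψ]; exact h k hk))
    rcases ρ.normal_ker.eq_bot_or_eq_top with h0 | h0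
    · exact absurd (eq_bot_iff.2 (h0 ▸ hle)) P.ne_bot
    · exact fun g => h0 ▸ Subgroup.mem_top g
  by_contra hne
  have h1 := classInner_irr_ne hne
  simp only [classInner, map_one, mul_one] at h1
  rw [Finset.sum_congr rfl (g := fun _ => (ψ : G → ℂ) 1) fun g _ => by
    rw [← hψ, Representation.char_one]
    exact (char_eq_degree_iff ρ g).2 (MonoidHom.mem_ker.1 (hker g)),
    Finset.sum_const, Finset.card_univ, nsmul_eq_mul, ← Nat.card_eq_fintype_card,
    inv_mul_cancel_left₀ card_ne_zero'] at h1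
  exact irr_one_ne_zero ψ h1

end Pt

end CfsgLib.Char.FeitZ
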