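import Cfsg.Agent.Lib.Char.CoherentTifn
import Cfsg.Agent.Lib.Char.RamifiedFrobenius
import Cfsg.Agent.Lib.Char.Integrality
import Cfsg.Agent.Lib.Char.FrobeniusKernelSet
import Cfsg.Agent.Lib.Char.ExceptionalConst

/-!
# The characters of a group with a coherent TI subgroup

Splitting of sums over the irreducible characters into the exceptional ones and those constant on
the non-identity elements of the subgroup, and the resulting relations.
-/

set_option autoImplicit false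
set_option linter.unusedSectionVars false
set_option linter.style.haveILetI false

namespace CfsgLib.Char.FeitZ

open scoped ComplexConjugate Classical
open Cfsg CfsgLib.Char

universe u

variable {G : Type u} [Group G] [Fintype G] (H : Subgroup G)

/-- The normaliser as a group. -/
abbrev NN := ↥(Subgroup.normalizer (H : Set G))

/-- The subgroup inside its normaliser. -/
abbrev KK : Subgroup (NN H) := H.subgroupOf (Subgroup.normalizer (H : Set G))

variable [Fintype (NN H)]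

/-- A coherent TI subgroup containing its centralisers. -/
structure Coh where
  ti : ∀ g : G, g ∉ Subgroup.normalizer (H : Set G) → ∀ k ∈ H, g * k * g⁻¹ ∈ H → k = 1
  cent : ∀ k ∈ H, k ≠ 1 → Subgroup.centralizer ({k} : Set G) ≤ H
  star : (NN H → ℂ) → (G → ℂ)
  iso : IsLinearIsometryOn (zspan (ExcSet H)) star
  ext : ∀ α ∈ zspanOn (ExcSet H) {1}ᶜ, star α = indFun (Subgroup.normalizer (H : Set G)) α
  two : ∃ χ ∈ ExcSet H, ∃ ξ ∈ ExcSet H, χ ≠ ξ

variable [Fintype (IrrCharacter G)] [Fintype (IrrCharacter (NN H))]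

/-- The exceptional characters of the normaliser. -/
noncomputable def excFin : Finset (IrrCharacter (NN H)) :=
  Finset.univ.filter fun χ => ∃ k ∈ KK H, (χ : NN H → ℂ) k ≠ (χ : NN H → ℂ) 1

/-- The irreducible characters constant on the non-identity elements of the subgroup. -/
noncomputable def restFin : Finset (IrrCharacter G) :=
  Finset.univ.filter fun ψ => ∀ a ∈ H, ∀ b ∈ H, a ≠ 1 → b ≠ 1 → (ψ : G → ℂ) a = (ψ : G → ℂ) b

variable {H}

theorem mem_excFin {χ : IrrCharacter (NN H)} : χ ∈ excFin H ↔ (χ : NN H → ℂ) ∈ ExcSet H :=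
  ⟨fun h => by
    obtain ⟨k, hk, hne⟩ := (Finset.mem_filter.1 h).2
    exact ⟨χ.2, k, hk, hne⟩, fun ⟨_, k, hk, hne⟩ => Finset.mem_filter.2 ⟨Finset.mem_univ _, k, hk, hne⟩⟩

theorem mem_restFin {ψ : IrrCharacter G} :
    ψ ∈ restFin H ↔ ∀ a ∈ H, ∀ b ∈ H, a ≠ 1 → b ≠ 1 → (ψ : G → ℂ) a = (ψ : G → ℂ) b := by
  simp [restFin]

theorem cent_KK (C : Coh H) : ∀ k ∈ KK H, k ≠ 1 → Subgroup.centralizer ({k} : Set (NN H)) ≤ KK H :=
  (exc_data H C.cent).1

instance normal_KK : (KK H).Normal := Subgroup.normal_in_normalizer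

theorem star_norm (C : Coh H) {χ : IrrCharacter (NN H)} (hχ : χ ∈ excFin H) :
    classInner (C.star χ) (C.star χ) = 1 := by
  rw [C.iso.2.2.1 _ (zspan_subset_mem (mem_excFin.1 hχ)) _ (zspan_subset_mem (mem_excFin.1 hχ))]
  exact classInner_irr_self χ

/-- Sums over all irreducible characters of a sign invariant function. -/
theorem sum_split (C : Coh H) {M : Type*} [AddCommMonoid M] (F : (G → ℂ) → M) (hF : ∀ f, F (-f) = F f) :
    ∑ ψ : IrrCharacter G, F ψ = (∑ χ ∈ excFin H, F (C.star χ)) + ∑ ψ ∈ restFin H, F ψ := by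
  have hiff := fun ψ : IrrCharacter G => coherent_exceptional_iff H C.star C.cent C.two C.iso C.ext ψ.2
  rw [← Finset.sum_filter_add_sum_filter_not Finset.univ (fun ψ : IrrCharacter G =>
    ∀ a ∈ H, ∀ b ∈ H, a ≠ 1 → b ≠ 1 → (ψ : G → ℂ) a = (ψ : G → ℂ) b), add_comm]
  refine congrArg₂ (· + ·) ?_ rfl
  symm
  have hX : ∀ χ ∈ excFin H, ∃ ψ : IrrCharacter G, C.star χ = ψ ∨ C.star χ = -(ψ : G → ℂ) := by
    intro χ hχ
    rcases irr_or_neg_of_norm_one (C.iso.2.2.2 _ (zspan_subset_mem (mem_excFin.1 hχ))) (star_norm C hχ) with h | h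
    · exact ⟨⟨_, h⟩, Or.inl rfl⟩
    · exact ⟨⟨_, h⟩, Or.inr (neg_neg _).symm⟩
  choose X hX using hX
  refine Finset.sum_bij X (fun χ hχ => ?_) (fun χ hχ ξ hξ he => ?_) (fun ψ hψ => ?_) fun χ hχ => ?_
  · refine Finset.mem_filter.2 ⟨Finset.mem_univ _, fun hall => ?_⟩
    obtain ⟨a, ha, b, hb, ha1, hb1, hne⟩ := (hiff (X χ hχ)).1 ⟨χ, mem_excFin.1 hχ, (hX χ hχ).imp Eq.symm fun h => by rw [h, neg_neg]⟩
    exact hne (hall a ha b hb ha1 hb1)
  · by_contra hne
    have h0 : classInner (C.star χ) (C.star ξ) = 0 := by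
      rw [C.iso.2.2.1 _ (zspan_subset_mem (mem_excFin.1 hχ)) _ (zspan_subset_mem (mem_excFin.1 hξ))]
      exact classInner_irr_ne hne
    rcases hX χ hχ with h1 | h1 <;> rcases hX ξ hξ with h2 | h2 <;>
      simp [h1, h2, he, classInner_neg_left, classInner_neg_right, classInner_irr_self] at h0
  · have hn := (Finset.mem_filter.1 hψ).2
    push Not at hn
    obtain ⟨χ, hχ, h⟩ := (hiff ψ).2 (by
      obtain ⟨a, ha, b, hb, ha1, hb1, hne⟩ := hn
      exact ⟨a, ha, b, hb, ha1, hb1, hne⟩)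
    have hm : (⟨χ, hχ.1⟩ : IrrCharacter (NN H)) ∈ excFin H := mem_excFin.2 hχ
    refine ⟨⟨χ, hχ.1⟩, hm, ?_⟩
    have h1 : classInner ((X _ hm : IrrCharacter G) : G → ℂ) ψ ≠ 0 := by
      rcases h with h | h <;> rcases hX _ hm with h' | h' <;>
        simp only [h] <;> simp only [h'] <;>
        simp [classInner_neg_left, classInner_neg_right, classInner_irr_self]
    by_contra hne
    exact h1 (classInner_irr_ne hne)
  · rcases hX χ hχ with h | h <;> rw [h]
    exact hF _

/-- Characters in the rest take a rational integer on the non-identity elements. -/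
theorem rest_value {ψ : IrrCharacter G} (hψ : ψ ∈ restFin H) {k₀ : G} (hk₀ : k₀ ∈ H) (hk₀1 : k₀ ≠ 1) :
    ∃ r : ℤ, ∀ k ∈ H, k ≠ 1 → (ψ : G → ℂ) k = r := by
  haveI : Fintype H := Fintype.ofFinite _
  obtain ⟨r, hr⟩ := int_of_const_generalized (H := H) (f := fun x : H => (ψ : G → ℂ) x)
    (isGeneralizedCharacter_of_isCharacter (isCharacter_comp (isCharacter_irr ψ) H.subtype))
    (k := ⟨k₀, hk₀⟩) (fun h => hk₀1 (congrArg Subtype.val h)) fun x hx =>
      mem_restFin.1 hψ _ x.2 _ hk₀ (fun h => hx (Subtype.ext h)) hk₀1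
  exact ⟨r, fun k hk hk1 => (mem_restFin.1 hψ k hk k₀ hk₀ hk1 hk₀1).trans hr⟩

/-- The degree of a character in the rest. -/
theorem rest_degree {ψ : IrrCharacter G} {r : ℤ} {d : ℕ} (hr : ∀ k ∈ H, k ≠ 1 → (ψ : G → ℂ) k = r)
    (hd : (ψ : G → ℂ) 1 = d) (hH : H ≠ ⊥) :
    ∃ j : ℤ, 0 ≤ j ∧ (d : ℤ) - r = j * Nat.card H ∧ (j = 0 → ∀ k ∈ H, (ψ : G → ℂ) k = (ψ : G → ℂ) 1) := by
  haveI : Fintype H := Fintype.ofFinite _
  haveI : Fintype (IrrCharacter H) := Fintype.ofFinite _
  have hres : IsCharacter H (fun x : H => (ψ : G → ℂ) x) := isCharacter_comp (isCharacter_irr ψ) H.subtype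
  have key : ∀ lam : IrrCharacter H, classInner (fun x : H => (ψ : G → ℂ) x) lam =
      (r : ℂ) * classInner (fun _ : H => (1 : ℂ)) lam + ((d : ℂ) - r) * (lam : H → ℂ) 1 / (Nat.card H : ℂ) := by
    intro lam
    simp only [classInner]
    rw [← Finset.add_sum_erase _ _ (Finset.mem_univ (1 : H)), ← Finset.add_sum_erase _ _ (Finset.mem_univ (1 : H)),
      Finset.sum_congr rfl (g := fun x : H => (r : ℂ) * (1 * conj ((lam : H → ℂ) x))) fun x hx => by
        rw [hr x x.2 fun h => (Finset.mem_erase.1 hx).1 (Subtype.ext h), one_mul],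
      ← Finset.mul_sum, Subgroup.coe_one, hd, conj_irr_one]
    ring
  obtain ⟨n0, hn0⟩ := classInner_isCharacter hres (isCharacter_irr ⟨_, isIrrCharacter_one⟩)
  have h1 := key ⟨_, isIrrCharacter_one⟩
  have hcard : (Nat.card H : ℂ) ≠ 0 := card_ne_zero'
  rw [hn0, show classInner (fun _ : H => (1 : ℂ)) (fun _ : H => (1 : ℂ)) = 1 from
    classInner_irr_self ⟨_, isIrrCharacter_one⟩] at h1
  simp only at h1
  have hdh : (d : ℤ) - r = ((n0 : ℤ) - r) * Nat.card H := by
    have : ((d : ℂ) - r) = ((n0 : ℂ) - r) * Nat.card H := by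
      rw [h1]; field_simp; ring
    exact_mod_cast this
  -- a non-trivial character of the subgroup
  obtain ⟨lam, hlam⟩ : ∃ lam : IrrCharacter H, lam ≠ ⟨_, isIrrCharacter_one⟩ := by
    by_contra hall
    push Not at hall
    have h2 := sum_degree_sq (G := H)
    rw [Finset.sum_eq_single (⟨_, isIrrCharacter_one⟩ : IrrCharacter H) (fun x _ hx => absurd (hall x) hx)
      (fun h => absurd (Finset.mem_univ _) h)] at h2
    simp only [one_pow] at h2
    exact hH (Subgroup.card_eq_one.1 (by exact_mod_cast h2.symm))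
  obtain ⟨n, hn⟩ := classInner_isCharacter hres (isCharacter_irr lam)
  obtain ⟨b, hb0, hb⟩ := isIrrCharacter_degree lam.2
  have h2 := key lam
  rw [hn, show classInner (fun _ : H => (1 : ℂ)) lam = 0 from
    classInner_irr_ne (χ := ⟨_, isIrrCharacter_one⟩) hlam.symm, mul_zero, zero_add, hb,
    show (d : ℂ) - r = (((n0 : ℤ) - r : ℤ) : ℂ) * Nat.card H by
      have := congrArg (fun z : ℤ => (z : ℂ)) hdh; push_cast at this ⊢; exact this] at h2
  have h3 : (n : ℤ) = ((n0 : ℤ) - r) * b := by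
    have : (n : ℂ) = (((n0 : ℤ) - r : ℤ) : ℂ) * b := by rw [h2]; field_simp
    exact_mod_cast this
  refine ⟨(n0 : ℤ) - r, ?_, hdh, fun h0 k hk => ?_⟩
  · have : (0 : ℤ) ≤ ((n0 : ℤ) - r) * b := h3 ▸ Int.natCast_nonneg n
    exact nonneg_of_mul_nonneg_left this (by exact_mod_cast hb0)
  · by_cases hk1 : k = 1
    · rw [hk1]
    · rw [h0, zero_mul, sub_eq_zero] at hdh
      rw [hr k hk hk1, hd, ← hdh, Int.cast_natCast]

/-- The exceptional characters vanish off the subgroup. -/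
theorem exc_vanish (C : Coh H) {χ : IrrCharacter (NN H)} (hχ : χ ∈ excFin H) {x : NN H} (hx : x ∉ KK H) :
    (χ : NN H → ℂ) x = 0 :=
  vanish_of_nonconst (KK H) (cent_KK C) χ.2 (Finset.mem_filter.1 hχ).2 hx

/-- Values of the exceptional characters. -/
theorem exc_values (C : Coh H) :
    ∃ m : ℤ, ∀ χ ∈ excFin H, ∀ k : NN H, k ∈ KK H → k ≠ 1 →
      C.star χ k = (χ : NN H → ℂ) k + (m : ℂ) * (χ : NN H → ℂ) 1 / ((KK H).index : ℂ) := by
  obtain ⟨a, ha, -⟩ := C.two
  obtain ⟨m, hm⟩ := coherent_restriction_constant H C.star C.ti C.cent ⟨a, ha⟩ C.iso C.ext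
  exact ⟨m, fun χ hχ k hk hk1 => by rw [← hm χ (mem_excFin.1 hχ) k hk hk1]; ring⟩

/-- Degrees of the exceptional characters are proportional. -/
theorem exc_degree (C : Coh H) {χ ξ : IrrCharacter (NN H)} (hχ : χ ∈ excFin H) (hξ : ξ ∈ excFin H) :
    (ξ : NN H → ℂ) 1 * C.star χ 1 = (χ : NN H → ℂ) 1 * C.star ξ 1 := by
  have h := star_alpha H C.star C.iso (mem_excFin.1 hχ) (mem_excFin.1 hξ)
  rw [C.ext _ (alpha_mem H (mem_excFin.1 hχ) (mem_excFin.1 hξ))] at h
  have h1 := congrFun h 1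
  rw [indFun_one] at h1
  simp only [Pi.sub_apply, Pi.smul_apply, smul_eq_mul] at h1
  linear_combination -h1

/-- A virtual character takes an integer value at the identity. -/
theorem generalized_one {θ : G → ℂ} (h : IsGeneralizedCharacter G θ) : ∃ D : ℤ, θ 1 = D := by
  obtain ⟨a, b, ha, hb, rfl⟩ := h
  obtain ⟨x, hx⟩ := isCharacter_degree ha
  obtain ⟨y, hy⟩ := isCharacter_degree hb
  exact ⟨(x : ℤ) - y, by rw [Pi.sub_apply, hx, hy]; push_cast; ring⟩

theorem star_int (C : Coh H) {χ : IrrCharacter (NN H)} (hχ : χ ∈ excFin H) : ∃ D : ℤ, C.star χ 1 = D :=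
  generalized_one (C.iso.2.2.2 _ (zspan_subset_mem (mem_excFin.1 hχ)))

/-- The multiplicity of an exceptional character of degree equal to the index in its own image. -/
theorem exc_mult (C : Coh H) {χ : IrrCharacter (NN H)} (hχ : χ ∈ excFin H)
    (he : (χ : NN H → ℂ) 1 = ((KK H).index : ℂ)) {D m : ℤ} (hD : C.star χ 1 = D)
    (hm : ∀ k : NN H, k ∈ KK H → k ≠ 1 →
      C.star χ k = (χ : NN H → ℂ) k + (m : ℂ) * (χ : NN H → ℂ) 1 / ((KK H).index : ℂ)) :
    ∃ j : ℤ, D - (KK H).index - m = j * Nat.card (KK H) := by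
  haveI : Fintype (KK H) := Fintype.ofFinite _
  obtain ⟨a, b, ha, hb, hab⟩ := C.iso.2.2.2 _ (zspan_subset_mem (mem_excFin.1 hχ))
  have hgen : IsGeneralizedCharacter (NN H) (fun x : NN H => C.star χ x) :=
    ⟨_, _, isCharacter_comp ha (Subgroup.subtype _), isCharacter_comp hb (Subgroup.subtype _),
      by funext x; rw [hab]; rfl⟩
  obtain ⟨n, hn⟩ := classInner_generalized_int hgen (isGeneralizedCharacter_of_isCharacter (isCharacter_irr χ))
  have hrestrict : ∀ F : NN H → ℂ, (∀ x : NN H, x ∉ KK H → F x = 0) → ∑ x : NN H, F x = ∑ x : KK H, F x := by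
    intro F hF
    rw [← Finset.sum_subset (Finset.subset_univ (Finset.univ.filter fun x : NN H => x ∈ KK H))
      fun x _ hx => hF x (by simpa using hx)]
    exact (Finset.sum_subtype _ (fun x => by simp) _)
  have hnorm := classInner_irr_self χ
  rw [classInner, hrestrict _ fun x hx => by rw [exc_vanish C hχ hx, map_zero, mul_zero]] at hn hnorm
  have hsum := sum_subgroup_eq_zero_of_nonconst (KK H) (cent_KK C) χ.2 (Finset.mem_filter.1 hχ).2
  rw [← Finset.add_sum_erase _ _ (Finset.mem_univ (1 : KK H))] at hn hnorm hsum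
  have hi : ((KK H).index : ℂ) ≠ 0 := Nat.cast_ne_zero.2 Subgroup.index_ne_zero_of_finite
  rw [Finset.sum_congr rfl (g := fun x : KK H => (χ : NN H → ℂ) x * conj ((χ : NN H → ℂ) x) +
      (m : ℂ) * conj ((χ : NN H → ℂ) x)) fun x hx => by
    rw [hm x x.2 fun h => (Finset.mem_erase.1 hx).1 (Subtype.ext h), he, mul_div_assoc, div_self hi]
    ring, Finset.sum_add_distrib, ← Finset.mul_sum, ← map_sum] at hn
  simp only [Subgroup.coe_one, OneMemClass.coe_one] at hn hnorm hsum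
  rw [he] at hnorm hsum
  rw [hD, he, eq_neg_of_add_eq_zero_right hsum, map_neg, map_natCast] at hn
  rw [map_natCast] at hnorm
  have hcard : (Nat.card (NN H) : ℂ) = (Nat.card (KK H) : ℂ) * ((KK H).index : ℂ) := by
    exact_mod_cast (KK H).card_mul_index.symm
  have hN0 : (Nat.card (NN H) : ℂ) ≠ 0 := card_ne_zero'
  have hA := (inv_mul_eq_iff_eq_mul₀ hN0).1 hnorm
  have hB := (inv_mul_eq_iff_eq_mul₀ hN0).1 hn
  refine ⟨n - 1, ?_⟩
  have : (D : ℂ) - ((KK H).index : ℂ) - m = ((n : ℂ) - 1) * Nat.card (KK H) := by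
    refine mul_right_cancel₀ hi ?_
    linear_combination hB - hA + ((n : ℂ) - 1) * hcard
  exact_mod_cast this

end CfsgLib.Char.FeitZ
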